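import Groth.Agent.W7See.Main

/-!
Invertible modules on a point; pullbacks from the base are trivial on fibres.
-/

set_option autoImplicit false
set_option backward.isDefEq.respectTransparency false
set_option backward.isDefEq.respectTransparency.types false
set_option linter.style.haveILetI false

universe u

open CategoryTheory CategoryTheory.Limits AlgebraicGeometry TopologicalSpace Opposite
open TMul (IsGen)

noncomputable section

namespace Groth.Agent.W7See

/-- An invertible module on the spectrum of a field is trivial. -/
lemma nonempty_iso_unit_of_subsingleton {P : Scheme.{u}} [Subsingleton P] [Nonempty P] {M : P.Modules}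
    (hM : PicF.IsInvertible M) : Nonempty (M ≅ Coh.structureModule P) := by
  obtain ⟨p⟩ : Nonempty P := inferInstance
  obtain ⟨A, e, hp, he⟩ := TMul.exists_isGen hM p
  have hA : (⊤ : P.Opens) ≤ A := fun q _ => Subsingleton.elim p q ▸ hp
  obtain ⟨i⟩ := InvGen.nonempty_iso (𝟙 P) M (le_top.trans hA) e he
  exact ⟨(Scheme.Modules.restrictFunctorId.app M).symm ≪≫ i⟩

/-- A module pulled back from the base is trivial on every fibre. -/
theorem nonempty_fiber_trivial {X Y : Scheme.{u}} (f : X ⟶ Y) (y : Y) {L : X.Modules} {M : Y.Modules}
    (e : (Scheme.Modules.pullback f).obj M ≅ L) (hM : PicF.IsInvertible M) :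
    Nonempty (CohIII.fiberMod f L y ≅ Coh.structureModule (f.fiber y)) := by
  let g := Y.fromSpecResidueField y
  let f' := f.fiberToSpecResidueField y
  haveI : Subsingleton ↥(Spec (Y.residueField y)) := inferInstanceAs (Subsingleton (PrimeSpectrum (Y.residueField y)))
  haveI : Nonempty ↥(Spec (Y.residueField y)) := inferInstanceAs (Nonempty (PrimeSpectrum (Y.residueField y)))
  obtain ⟨i⟩ := nonempty_iso_unit_of_subsingleton (PicLoc.isInvertible_pullback g hM)
  exact ⟨(Scheme.Modules.pullback (f.fiberι y)).mapIso e.symm ≪≫
    (Scheme.Modules.pullbackComp (f.fiberι y) f).app M ≪≫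
    (Scheme.Modules.pullbackCongr (show f.fiberι y ≫ f = f' ≫ g from f.fiber_fac y)).app M ≪≫
    ((Scheme.Modules.pullbackComp f' g).app M).symm ≪≫
    (Scheme.Modules.pullback f').mapIso i ≪≫ PicLoc.pullbackStructureIso f'⟩

end Groth.Agent.W7See
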