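import Groth.Agent.W7See.Point

/-!
The seesaw theorem tested at closed points of a Jacobson base.
-/

set_option autoImplicit false
set_option backward.isDefEq.respectTransparency false
set_option backward.isDefEq.respectTransparency.types false
set_option linter.style.haveILetI false

universe u

open CategoryTheory CategoryTheory.Limits AlgebraicGeometry TopologicalSpace Opposite

noncomputable section

namespace Groth.Agent.W7See

variable {X Y : Scheme.{u}} (f : X ⟶ Y) [IsProper f] [Flat f] [IsLocallyNoetherian Y] [JacobsonSpace Y]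

/-- `h⁰` constant on closed points is constant. -/
theorem fiberRank_of_closedPoints (L : X.Modules) (hL : PicF.IsInvertible L) (n : ℕ)
    (h : ∀ y : Y, IsClosed ({y} : Set Y) → CohIII.fiberRank f L 0 y = n) (y : Y) :
    CohIII.fiberRank f L 0 y = n := by
  rcases lt_trichotomy (CohIII.fiberRank f L 0 y) n with hlt | heq | hgt
  · obtain ⟨z, hz, hzc⟩ := nonempty_inter_closedPoints (Z := {z : Y | CohIII.fiberRank f L 0 z < n}) ⟨y, hlt⟩
      (isOpen_fiberRank_lt f L hL n).isLocallyClosed
    exact absurd (h z hzc) (ne_of_lt hz)
  · exact heq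
  · have hcl : IsClosed {z : Y | n < CohIII.fiberRank f L 0 z} := by
      have := (isOpen_fiberRank_lt f L hL (n + 1)).isClosed_compl
      rwa [show {z : Y | n < CohIII.fiberRank f L 0 z} = {z : Y | CohIII.fiberRank f L 0 z < n + 1}ᶜ from
        Set.ext fun z => show n < _ ↔ ¬ _ < n + 1 from by omega]
    obtain ⟨z, hz, hzc⟩ := nonempty_inter_closedPoints (Z := {z : Y | n < CohIII.fiberRank f L 0 z}) ⟨y, hgt⟩
      hcl.isLocallyClosed
    exact absurd (h z hzc) (ne_of_gt hz)

variable [IsReduced Y]

/-- Trivial on the closed fibres, which have only constant functions: pulled back from the base. -/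
theorem seesaw_closedPoints
    (hy : ∀ y : Y, IsClosed ({y} : Set Y) → Function.Bijective ((f.fiberToSpecResidueField y).appTop.hom.comp
      (Scheme.ΓSpecIso (Y.residueField y)).inv.hom)) (L : X.Modules) (hL : PicF.IsInvertible L)
    (htriv : ∀ y : Y, IsClosed ({y} : Set Y) → Nonempty (CohIII.fiberMod f L y ≅ Coh.structureModule (f.fiber y))) :
    PicF.IsInvertible ((Scheme.Modules.pushforward f).obj L) ∧
      IsIso ((Scheme.Modules.pullbackPushforwardAdjunction f).counit.app L) := by
  have hO : PicF.IsInvertible (Coh.structureModule X) := TMul.isInvertible_structureModule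
  have iO : ∀ y, CohIII.fiberMod f (Coh.structureModule X) y ≅ Coh.structureModule (f.fiber y) := fun y =>
    PicLoc.pullbackStructureIso (f.fiberι y)
  have h1 : ∀ y : Y, Function.Bijective ((f.fiberToSpecResidueField y).appTop.hom.comp
      (Scheme.ΓSpecIso (Y.residueField y)).inv.hom) := fun y => by
    refine bijective_of_finrank f y ?_
    rw [← fiberRank_eq_finrank f (Coh.structureModule X) y (iO y)]
    exact fiberRank_of_closedPoints f _ hO 1 (fun z hz => fiberRank_eq_one f _ z (hy z hz) (iO z)) y
  have h2 := fiberRank_of_closedPoints f L hL 1 fun z hz => fiberRank_eq_one f L z (hy z hz) (htriv z hz).some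
  refine seesaw_formal f (app_bijective_of_local f fun y => W7Hull.exists_nhd_app_bijective f y (h1 y)) L hL
    fun y => ?_
  obtain ⟨z, hz, hzc⟩ := nonempty_inter_closedPoints (Z := closure ({y} : Set Y)) ⟨y, subset_closure rfl⟩
    isClosed_closure.isLocallyClosed
  obtain ⟨U, g, hzU, hg⟩ :=
    W7Hull.exists_gen_near_of_epi f L hL z (exists_nhd_epi_of_rank f L hL 1 h2 z) (htriv z hzc).some
  exact ⟨U, g, (specializes_iff_mem_closure.2 hz).mem_open U.2 hzU, hg⟩

/-- An integral proper scheme over an algebraically closed field has only constant functions. -/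
theorem bijective_of_isAlgClosed {K : Type u} [Field K] [IsAlgClosed K] {Z : Scheme.{u}}
    (p : Z ⟶ Spec (CommRingCat.of K)) [IsProper p] [IsIntegral Z] :
    Function.Bijective (p.appTop.hom.comp (Scheme.ΓSpecIso (CommRingCat.of K)).inv.hom) := by
  haveI : CompactSpace Z := QuasiCompact.compactSpace_of_compactSpace p
  obtain ⟨x, -, hx⟩ := IsClosed.exists_closed_singleton (isClosed_univ (X := Z)) Set.univ_nonempty
  exact (bijective_of_point p (pointOfClosedPoint p x hx) (pointOfClosedPoint_comp p x hx)).comp
    (ConcreteCategory.bijective_of_isIso (Scheme.ΓSpecIso (CommRingCat.of K)).inv)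

end Groth.Agent.W7See
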