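import Groth.Prelude.Def_ega3
import Groth.Agent.Rigid.Sections
import Groth.Agent.W7Cech.GlobSec
import Mathlib.AlgebraicGeometry.Geometrically.Connected
import Mathlib.AlgebraicGeometry.Geometrically.Reduced
import Mathlib.AlgebraicGeometry.AlgClosed.Basic
import Mathlib.FieldTheory.IsAlgClosed.AlgebraicClosure
import Mathlib.RingTheory.Flat.FaithfullyFlat.Basic

/-!
Global functions of proper geometrically connected and geometrically reduced schemes over a field.
-/

set_option autoImplicit false
set_option backward.isDefEq.respectTransparency false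
set_option backward.isDefEq.respectTransparency.types false
set_option linter.style.haveILetI false

universe u

open CategoryTheory CategoryTheory.Limits AlgebraicGeometry TopologicalSpace Opposite TensorProduct

noncomputable section

namespace Groth.Agent.W7See

lemma appLE_top {A B : Scheme.{u}} (f : A ⟶ B) (e : (⊤ : A.Opens) ≤ f ⁻¹ᵁ ⊤) : f.appLE ⊤ ⊤ e = f.appTop := by
  rw [Scheme.Hom.appTop, Scheme.Hom.app_eq_appLE]; rfl

/-- A connected reduced proper scheme with a rational point has only constant functions. -/
lemma bijective_of_point {K : Type u} [Field K] {Z : Scheme.{u}} (p : Z ⟶ Spec (CommRingCat.of K))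
    [UniversallyClosed p] [IsReduced Z] [PreconnectedSpace Z] (s : Spec (CommRingCat.of K) ⟶ Z)
    (hs : s ≫ p = 𝟙 _) : Function.Bijective p.appTop.hom := by
  have h1 : p.appTop ≫ s.appTop = 𝟙 _ := by rw [← Scheme.Hom.comp_appTop, hs, Scheme.Hom.id_appTop]
  have h2 : ∀ c, s.appTop.hom (p.appTop.hom c) = c := fun c => congr(($h1).hom c)
  refine ⟨Function.LeftInverse.injective h2, fun φ => ⟨s.appTop.hom φ, ?_⟩⟩
  refine (sub_eq_zero.1 (Rigid.eq_zero_of_section_field p s hs _ ?_)).symm
  change s.appTop.hom (φ - p.appTop.hom (s.appTop.hom φ)) = 0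
  rw [map_sub, h2, sub_self]

/-- Global functions of a proper geometrically connected and geometrically reduced scheme over a field. -/
theorem bijective_global_field {K : Type u} [Field K] {Z : Scheme.{u}} (p : Z ⟶ Spec (CommRingCat.of K))
    [IsProper p] [GeometricallyConnected p] [GeometricallyReduced p] :
    Function.Bijective (p.appTop.hom.comp (Scheme.ΓSpecIso (CommRingCat.of K)).inv.hom) := by
  let L := AlgebraicClosure K
  let g : Spec (CommRingCat.of L) ⟶ Spec (CommRingCat.of K) := Spec.map (CommRingCat.ofHom (algebraMap K L))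
  let a := pullback.fst p g
  let q := pullback.snd p g
  have H : IsPullback a q p g := IsPullback.of_hasPullback p g
  haveI : ConnectedSpace ↑(pullback p g) := GeometricallyConnected.geometrically_connectedSpace _ _ _ H
  haveI : IsReduced (pullback p g) := GeometricallyReduced.geometrically_isReduced _ _ _ H
  haveI : IsProper q := inferInstance
  haveI : CompactSpace ↑(pullback p g) := QuasiCompact.compactSpace_of_compactSpace q
  obtain ⟨x, -, hx⟩ := IsClosed.exists_closed_singleton (isClosed_univ (X := ↑(pullback p g))) Set.univ_nonempty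
  have hq := bijective_of_point q (pointOfClosedPoint q x hx) (pointOfClosedPoint_comp q x hx)
  haveI : Flat g := by
    refine HasRingHomProperty.Spec_iff.2 ?_
    exact RingHom.flat_algebraMap_iff.2 inferInstance
  haveI : CompactSpace Z := QuasiCompact.compactSpace_of_compactSpace p
  haveI : QuasiSeparatedSpace Z := quasiSeparatedSpace_of_quasiSeparated p
  have h0 := (isIso_pushoutSection_iff H (US := ⊤) (UT := ⊤) (UX := ⊤) le_top le_top (UY := ⊤)
    (by simp)).1 (isIso_pushoutSection_of_isQuasiSeparated_of_flat_right _ _ _ _ (isAffineOpen_top _)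
      (isAffineOpen_top _) isCompact_univ isQuasiSeparated_univ)
  simp only [appLE_top] at h0
  let i := Scheme.ΓSpecIso (CommRingCat.of K)
  let j := Scheme.ΓSpecIso (CommRingCat.of L)
  let B : Type u := Γ(Z, ⊤)
  letI : Algebra K B := (i.inv ≫ p.appTop).hom.toAlgebra
  have h1 : IsPushout (CommRingCat.ofHom (algebraMap K L)) (CommRingCat.ofHom (algebraMap K B))
      (j.inv ≫ q.appTop) a.appTop := by
    refine h0.flip.of_iso i j (Iso.refl _) (Iso.refl _) ?_ ?_ ?_ ?_
    · simp only [g, i, j, Scheme.ΓSpecIso_naturality]
    · change p.appTop ≫ 𝟙 _ = i.hom ≫ i.inv ≫ p.appTop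
      simp
    · change q.appTop ≫ 𝟙 _ = j.hom ≫ j.inv ≫ q.appTop
      simp
    · change a.appTop ≫ 𝟙 _ = 𝟙 _ ≫ a.appTop
      simp
  obtain ⟨e, he⟩ := Rigid.exists_tensorEquiv (A := K) (K := L) (B := B) h1
  have hq' : Function.Bijective (j.inv ≫ q.appTop).hom := hq.comp (ConcreteCategory.bijective_of_isIso j.inv)
  have hl : Function.Bijective ((Algebra.linearMap K B).lTensor L) := by
    refine (Function.Bijective.of_comp_iff' e.bijective _).1 ?_
    have : (e ∘ (Algebra.linearMap K B).lTensor L) = (j.inv ≫ q.appTop).hom ∘ TensorProduct.rid K L := by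
      funext w
      induction w using TensorProduct.induction_on with
      | zero => simp
      | add x y hx hy =>
        simp only [Function.comp_apply] at hx hy ⊢
        rw [map_add, map_add, hx, hy, map_add, map_add]
      | tmul l k =>
        simp only [Function.comp_apply, LinearMap.lTensor_tmul, TensorProduct.rid_tmul]
        rw [he, Algebra.smul_def, mul_comm, map_mul]
        congr 1
        exact congr(($(h1.w)).hom k).symm
    rw [this]
    exact hq'.comp (TensorProduct.rid K L).bijective
  exact (Module.FaithfullyFlat.lTensor_bijective_iff_bijective K L _).1 hl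

/-- The same for a fibre. -/
theorem bijective_fiber {X Y : Scheme.{u}} (f : X ⟶ Y) [IsProper f] [GeometricallyConnected f]
    [GeometricallyReduced f] (y : Y) :
    Function.Bijective ((f.fiberToSpecResidueField y).appTop.hom.comp
      (Scheme.ΓSpecIso (Y.residueField y)).inv.hom) :=
  haveI : IsProper (f.fiberToSpecResidueField y) := MorphismProperty.pullback_snd _ _ inferInstance
  bijective_global_field (K := Y.residueField y) (f.fiberToSpecResidueField y)

/-- Bijectivity from the dimension. -/
theorem bijective_of_finrank {X Y : Scheme.{u}} (f : X ⟶ Y) (y : Y)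
    (h0 : Module.finrank (Y.residueField y) Γ(f.fiber y, ⊤) = 1) :
    Function.Bijective ((f.fiberToSpecResidueField y).appTop.hom.comp
      (Scheme.ΓSpecIso (Y.residueField y)).inv.hom) := by
  haveI : Nontrivial Γ(f.fiber y, ⊤) := Module.nontrivial_of_finrank_eq_succ h0
  exact (Module.Free.bijective_algebraMap_of_finrank_eq_one h0)

/-- `H⁰` of a module trivial on a fibre is one dimensional. -/
theorem fiberRank_eq_one {X Y : Scheme.{u}} (f : X ⟶ Y) (L : X.Modules) (y : Y)
    (hy : Function.Bijective ((f.fiberToSpecResidueField y).appTop.hom.comp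
      (Scheme.ΓSpecIso (Y.residueField y)).inv.hom))
    (i : CohIII.fiberMod f L y ≅ Coh.structureModule (f.fiber y)) :
    CohIII.fiberRank f L 0 y = 1 := by
  letI : (f.fiber y).Over (Spec (CommRingCat.of (Y.residueField y))) := ⟨f.fiberToSpecResidueField y⟩
  let M := CohIII.fiberMod f L y
  refine Eq.trans (W7Cech.gsH0L (Y.residueField y) M).symm.finrank_eq ?_
  have hbij : Function.Bijective (i.inv.app ⊤) := ConcreteCategory.bijective_of_isIso _
  refine finrank_eq_one_iff'.2 ⟨i.inv.app ⊤ (1 : Γ(f.fiber y, ⊤)), fun h => ?_, fun w => ?_⟩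
  · haveI : Nontrivial Γ(f.fiber y, ⊤) := hy.1.nontrivial
    refine one_ne_zero (α := Γ(f.fiber y, ⊤)) (hbij.1 ?_)
    exact h.trans (map_zero (i.inv.app ⊤).hom).symm
  · obtain ⟨c', hc'⟩ := hbij.2 (show Γ(M, ⊤) from w)
    obtain ⟨c, rfl⟩ := hy.2 (show Γ(f.fiber y, ⊤) from c')
    refine ⟨c, ?_⟩
    refine Eq.trans ?_ hc'
    exact ((Scheme.Modules.Hom.app_smul i.inv _ _).symm).trans (congrArg (i.inv.app ⊤) (mul_one (M := Γ(f.fiber y, ⊤)) _))

end Groth.Agent.W7See
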