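import Groth.Agent.W7See.Trivial
import Mathlib.AlgebraicGeometry.Geometrically.Integral

/-!
Closedness of the locus of trivial fibres; bundles trivial over the base with a trivial section.
-/

set_option autoImplicit false
set_option backward.isDefEq.respectTransparency false
set_option backward.isDefEq.respectTransparency.types false
set_option linter.style.haveILetI false

universe u

open CategoryTheory CategoryTheory.Limits AlgebraicGeometry TopologicalSpace Opposite
open TMul (IsGen)

noncomputable section

namespace Groth.Agent.W7See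

variable {X Y : Scheme.{u}} (f : X ⟶ Y)

/-- With integral fibres having only constant functions, trivial fibres form a closed set. -/
theorem isClosed_trivial_locus_lfp [IsProper f] [Flat f] [LocallyOfFinitePresentation f] (hint : ∀ y : Y, IsIntegral (f.fiber y))
    (hy : ∀ y : Y, Function.Bijective ((f.fiberToSpecResidueField y).appTop.hom.comp
      (Scheme.ΓSpecIso (Y.residueField y)).inv.hom))
    (L : X.Modules) (hL : PicF.IsInvertible L) :
    IsClosed {y : Y | Nonempty (CohIII.fiberMod f L y ≅ Coh.structureModule (f.fiber y))} := by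
  obtain ⟨L', hL', ⟨ε⟩⟩ := W7Hull.exists_tensor_inverse hL
  have hset : {y : Y | Nonempty (CohIII.fiberMod f L y ≅ Coh.structureModule (f.fiber y))} =
      {y : Y | CohIII.fiberRank f L 0 y < 1}ᶜ ∩ {y : Y | CohIII.fiberRank f L' 0 y < 1}ᶜ := by
    ext y
    haveI := hint y
    obtain ⟨a⟩ := TMul.nonempty_pullTensorIso (f.fiberι y) L L'
    let j : CohB1.tensorMod (CohIII.fiberMod f L y) (CohIII.fiberMod f L' y) ≅ Coh.structureModule (f.fiber y) :=
      a ≪≫ (Scheme.Modules.pullback (f.fiberι y)).mapIso ε ≪≫ PicLoc.pullbackStructureIso (f.fiberι y)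
    refine ⟨fun ⟨i⟩ => ⟨?_, ?_⟩, fun ⟨h1, h2⟩ => ?_⟩
    · exact not_lt.2 (fiberRank_eq_one f L y (hy y) i).ge
    · exact not_lt.2 (fiberRank_eq_one f L' y (hy y)
        ((TMul.leftUnitIso _).symm ≪≫ PicGrp.tensorModIso i.symm (Iso.refl _) ≪≫ j)).ge
    · have hsec : ∀ M : X.Modules, ¬ CohIII.fiberRank f M 0 y < 1 → ∃ s : Γ(CohIII.fiberMod f M y, ⊤), s ≠ 0 := by
        intro M hM
        haveI : Nontrivial (Coh.HH (f.fiber y) (CohIII.fiberMod f M y) 0) :=
          Module.nontrivial_of_finrank_pos (R := Y.residueField y)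
            (Nat.lt_of_not_le fun h => hM (Nat.lt_one_iff.2 (Nat.le_zero.1 h)))
        exact exists_ne_zero_of_nontrivial _
      obtain ⟨s, hs⟩ := hsec L h1
      obtain ⟨t, ht⟩ := hsec L' h2
      exact nonempty_iso_unit_of_sections (isUnit_of_bijective (hy y))
        (PicLoc.isInvertible_pullback _ hL) (PicLoc.isInvertible_pullback _ hL') j hs ht
  rw [hset]
  exact (isOpen_fiberRank_lt_lfp f L hL 1).isClosed_compl.inter (isOpen_fiberRank_lt_lfp f L' hL' 1).isClosed_compl

/-- The same over a locally Noetherian base. -/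
theorem isClosed_trivial_locus [IsProper f] [Flat f] [IsLocallyNoetherian Y] (hint : ∀ y : Y, IsIntegral (f.fiber y))
    (hy : ∀ y : Y, Function.Bijective ((f.fiberToSpecResidueField y).appTop.hom.comp
      (Scheme.ΓSpecIso (Y.residueField y)).inv.hom))
    (L : X.Modules) (hL : PicF.IsInvertible L) :
    IsClosed {y : Y | Nonempty (CohIII.fiberMod f L y ≅ Coh.structureModule (f.fiber y))} := by
  haveI : LocallyOfFinitePresentation f := InfLift.lfp_of_lft f
  exact isClosed_trivial_locus_lfp f hint hy L hL

/-- A module pulled back from the base with a trivial section is trivial. -/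
theorem nonempty_iso_unit_of_counit (L : X.Modules)
    (hc : IsIso ((Scheme.Modules.pullbackPushforwardAdjunction f).counit.app L)) (s : Y ⟶ X) (hs : s ≫ f = 𝟙 Y)
    (i : (Scheme.Modules.pullback s).obj L ≅ Coh.structureModule Y) : Nonempty (L ≅ Coh.structureModule X) := by
  haveI := hc
  let N := (Scheme.Modules.pushforward f).obj L
  let e := asIso ((Scheme.Modules.pullbackPushforwardAdjunction f).counit.app L)
  let n : N ≅ Coh.structureModule Y :=
    ((Scheme.Modules.pullbackId Y).app N).symm ≪≫ (Scheme.Modules.pullbackCongr hs.symm).app N ≪≫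
      ((Scheme.Modules.pullbackComp s f).app N).symm ≪≫ (Scheme.Modules.pullback s).mapIso e ≪≫ i
  exact ⟨e.symm ≪≫ (Scheme.Modules.pullback f).mapIso n ≪≫ PicLoc.pullbackStructureIso f⟩

end Groth.Agent.W7See
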