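import Groth.Agent.W7See.Point

/-!
On an integral scheme with a field of global functions an invertible module is trivial as soon as it and its
inverse have nonzero sections.
-/

set_option autoImplicit false
set_option backward.isDefEq.respectTransparency false
set_option backward.isDefEq.respectTransparency.types false
set_option linter.style.haveILetI false

universe u

open CategoryTheory CategoryTheory.Limits AlgebraicGeometry TopologicalSpace Opposite
open Groth.Agent.QC (res resO res_res res_self res_smul app_res)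
open TMul (IsGen tm)

noncomputable section

namespace Groth.Agent.W7See

variable {Z : Scheme.{u}} [IsIntegral Z]

/-- A nonzero section of an invertible module stays nonzero on nonempty opens. -/
lemma res_ne_zero {L : Z.Modules} (hL : PicF.IsInvertible L) {s : Γ(L, ⊤)} (hs : s ≠ 0) (U : Z.Opens)
    [Nonempty U] : res L (le_top : U ≤ ⊤) s ≠ 0 := by
  refine fun h0 => hs (QC.section_eq_of_locally fun x _ => ?_)
  obtain ⟨A, e, hxA, he⟩ := TMul.exists_isGen hL x
  refine ⟨A, le_top, hxA, ?_⟩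
  rw [map_zero]
  obtain ⟨a, ha⟩ := (he A le_rfl).2 (res L (le_top : A ≤ ⊤) s)
  change a • res L le_rfl e = _ at ha
  rw [res_self] at ha
  obtain ⟨y, hyA, hyU⟩ := nonempty_preirreducible_inter A.2 U.2 ⟨x, hxA⟩
    (Set.nonempty_coe_sort.1 (inferInstanceAs (Nonempty U)))
  haveI : Nonempty ↥(A ⊓ U : Z.Opens) := ⟨⟨y, hyA, hyU⟩⟩
  have h1 := congrArg (res L (inf_le_left : A ⊓ U ≤ A)) ha
  rw [res_smul, res_res, ← res_res L (inf_le_right : A ⊓ U ≤ U) (le_top : U ≤ ⊤), h0, map_zero] at h1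
  have h2 : resO Z (inf_le_left : A ⊓ U ≤ A) a = 0 :=
    ((he.res inf_le_left) (A ⊓ U) le_rfl).1 (a₂ := 0) (by
      change _ • res L le_rfl _ = (0 : Γ(Z, A ⊓ U)) • res L le_rfl _
      rw [res_self, zero_smul]; exact h1)
  have h3 : a = 0 := map_injective_of_isIntegral Z (homOfLE (inf_le_left : A ⊓ U ≤ A)) (H := ⟨⟨y, hyA, hyU⟩⟩)
    (h2.trans (map_zero _).symm)
  rw [← ha, h3, zero_smul]

/-- An invertible module and its inverse both with nonzero sections: trivial. -/
theorem nonempty_iso_unit_of_sections (hF : ∀ c : Γ(Z, ⊤), c ≠ 0 → IsUnit c) {L L' : Z.Modules}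
    (hL : PicF.IsInvertible L) (hL' : PicF.IsInvertible L')
    (ε : CohB1.tensorMod L L' ≅ Coh.structureModule Z) {s : Γ(L, ⊤)} (hs : s ≠ 0) {t : Γ(L', ⊤)} (ht : t ≠ 0) :
    Nonempty (L ≅ Coh.structureModule Z) := by
  have hw : ∀ x : Z, ∃ (W : Z.Opens) (a b : Γ(Z, W)) (e : Γ(L, W)) (e' : Γ(L', W)), x ∈ W ∧
      IsGen e ∧ IsGen e' ∧ res L le_top s = a • e ∧ res L' le_top t = b • e' := by
    intro x
    obtain ⟨A, e, hxA, he⟩ := TMul.exists_isGen hL x
    obtain ⟨B, e', hxB, he'⟩ := TMul.exists_isGen hL' x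
    obtain ⟨a, ha⟩ := ((he.res (inf_le_left : A ⊓ B ≤ A)) _ le_rfl).2 (res L (le_top : A ⊓ B ≤ ⊤) s)
    obtain ⟨b, hb⟩ := ((he'.res (inf_le_right : A ⊓ B ≤ B)) _ le_rfl).2 (res L' (le_top : A ⊓ B ≤ ⊤) t)
    change a • res L le_rfl _ = _ at ha
    change b • res L' le_rfl _ = _ at hb
    rw [res_self] at ha hb
    exact ⟨A ⊓ B, a, b, _, _, ⟨hxA, hxB⟩, he.res inf_le_left, he'.res inf_le_right, ha.symm, hb.symm⟩
  let u : Γ(Z, ⊤) := ε.hom.app ⊤ (tm s t)
  have hu : ∀ (W : Z.Opens) (a b : Γ(Z, W)) (e : Γ(L, W)) (e' : Γ(L', W)), IsGen e → IsGen e' →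
      res L le_top s = a • e → res L' le_top t = b • e' →
      resO Z (le_top : W ≤ ⊤) u = a * b * (show Γ(Z, W) from ε.hom.app W (tm e e')) := by
    intro W a b e e' _ _ ha hb
    have h1 : res (Coh.structureModule Z) (le_top : W ≤ ⊤) (ε.hom.app ⊤ (tm s t)) =
        ε.hom.app W ((a * b) • tm e e') := by
      rw [app_res ε.hom, TMul.res_tm, ha, hb, TMul.smul_tm, TMul.tm_smul, smul_smul]
    rw [Scheme.Modules.Hom.app_smul] at h1
    exact h1
  have hu0 : u ≠ 0 := by
    intro h0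
    obtain ⟨x⟩ : Nonempty Z := inferInstance
    obtain ⟨W, a, b, e, e', hxW, he, he', ha, hb⟩ := hw x
    haveI : Nonempty W := ⟨⟨x, hxW⟩⟩
    have ha0 : a ≠ 0 := fun h => res_ne_zero hL hs W (by rw [ha, h, zero_smul])
    have hb0 : b ≠ 0 := fun h => res_ne_zero hL' ht W (by rw [hb, h, zero_smul])
    have hc0 : ε.hom.app W (tm e e') ≠ 0 := fun h => by
      have h1 : tm e e' = 0 :=
        (ConcreteCategory.bijective_of_isIso (ε.hom.app W)).1 (h.trans (map_zero (ε.hom.app W).hom).symm)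
      refine one_ne_zero (α := Γ(Z, W)) (((TMul.isGen_tm he he') W le_rfl).1 (a₂ := 0) ?_)
      change (1 : Γ(Z, W)) • res _ le_rfl _ = (0 : Γ(Z, W)) • res _ le_rfl _
      rw [res_self, h1, smul_zero, smul_zero]
    have h2 := hu W a b e e' he he' ha hb
    rw [h0, map_zero] at h2
    exact mul_ne_zero (mul_ne_zero ha0 hb0) hc0 h2.symm
  have hg : IsGen s := by
    refine UfdExtend.isGen_of_locally fun x _ => ?_
    obtain ⟨W, a, b, e, e', hxW, he, he', ha, hb⟩ := hw x
    refine ⟨W, le_top, hxW, ?_⟩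
    rw [ha]
    refine W7Hull.isGen_smul he (isUnit_of_mul_isUnit_left (y := b * (show Γ(Z, W) from ε.hom.app W (tm e e'))) ?_)
    rw [← mul_assoc, ← hu W a b e e' he he' ha hb]
    exact (hF u hu0).map _
  obtain ⟨i⟩ := InvGen.nonempty_iso (𝟙 Z) L (U := ⊤) le_top s hg
  exact ⟨(Scheme.Modules.restrictFunctorId.app L).symm ≪≫ i⟩

omit [IsIntegral Z] in
/-- A trivial module on a nonempty scheme has a nonzero section. -/
lemma exists_ne_zero_of_iso [Nonempty Z] {L : Z.Modules} (i : L ≅ Coh.structureModule Z) :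
    ∃ s : Γ(L, ⊤), s ≠ 0 := by
  refine ⟨i.inv.app ⊤ (1 : Γ(Z, ⊤)), fun h => ?_⟩
  haveI : Nontrivial Γ(Z, ⊤) := by
    obtain ⟨x⟩ : Nonempty Z := inferInstance
    exact (Z.presheaf.germ ⊤ x trivial).hom.domain_nontrivial
  exact one_ne_zero (α := Γ(Z, ⊤))
    ((ConcreteCategory.bijective_of_isIso (i.inv.app ⊤)).1 (h.trans (map_zero (i.inv.app ⊤).hom).symm))

omit [IsIntegral Z] in
/-- Nonzero sections from nonzero `H⁰`. -/
lemma exists_ne_zero_of_nontrivial (L : Z.Modules) [Nontrivial (Coh.HH Z L 0)] : ∃ s : Γ(L, ⊤), s ≠ 0 := by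
  obtain ⟨h, hh⟩ := exists_ne (0 : Coh.HH Z L 0)
  exact ⟨Sheaf.H.equiv₀ (Coh.toAb L) (Limits.isTerminalTop (α := Z.Opens)) h,
    fun h0 => hh ((AddEquiv.map_eq_zero_iff (Sheaf.H.equiv₀ (Coh.toAb L) (Limits.isTerminalTop (α := Z.Opens)))).1 h0)⟩

omit [IsIntegral Z] in
/-- Nonzero `H⁰` from nonzero sections. -/
lemma nontrivial_of_ne_zero (L : Z.Modules) {s : Γ(L, ⊤)} (hs : s ≠ 0) : Nontrivial (Coh.HH Z L 0) :=
  ⟨(Sheaf.H.equiv₀ (Coh.toAb L) (Limits.isTerminalTop (α := Z.Opens))).symm s, 0, fun h => hs (by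
    have := congrArg (Sheaf.H.equiv₀ (Coh.toAb L) (Limits.isTerminalTop (α := Z.Opens))) h
    rw [AddEquiv.apply_symm_apply, map_zero] at this
    exact this)⟩

end Groth.Agent.W7See

namespace Groth.Agent.W7See

/-- Geometrically integral morphisms are geometrically connected. -/
lemma geometricallyConnected_of_geometricallyIntegral {X Y : Scheme.{u}} (f : X ⟶ Y) [GeometricallyIntegral f] :
    GeometricallyConnected f :=
  ⟨fun K _ y Z fst snd h => by
    haveI : IsIntegral Z := GeometricallyIntegral.geometrically_isIntegral y fst snd h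
    infer_instance⟩

/-- Units among the functions of a scheme with the field as functions. -/
lemma isUnit_of_bijective {K : Type u} [Field K] {A : Type u} [CommRing A] {φ : K →+* A}
    (hφ : Function.Bijective φ) (c : A) (hc : c ≠ 0) : IsUnit c := by
  obtain ⟨a, rfl⟩ := hφ.2 c
  exact (IsUnit.mk0 a fun h => hc (by rw [h, map_zero])).map φ

end Groth.Agent.W7See
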