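import Groth.Agent.W7See.Fibre
import Groth.Agent.W7Hull.PushOne
import Groth.Agent.W7Cech.UnitIso
import Groth.Agent.W7Cech.GrauertMain

/-!
The seesaw theorem over a reduced base.
-/

set_option autoImplicit false
set_option backward.isDefEq.respectTransparency false
set_option backward.isDefEq.respectTransparency.types false
set_option linter.style.haveILetI false
set_option maxHeartbeats 1000000

universe u

open CategoryTheory CategoryTheory.Limits AlgebraicGeometry TopologicalSpace Opposite
open Groth.Agent.QC (res resO res_res res_self res_smul app_res)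
open TMul (IsGen)

noncomputable section

namespace Groth.Agent.W7See

variable {X Y : Scheme.{u}} (f : X ⟶ Y)

/-- `h⁰` of a module trivial on the fibre is `h⁰` of the structure sheaf. -/
theorem fiberRank_eq_finrank (L : X.Modules) (y : Y)
    (i : CohIII.fiberMod f L y ≅ Coh.structureModule (f.fiber y)) :
    CohIII.fiberRank f L 0 y = Module.finrank (Y.residueField y) Γ(f.fiber y, ⊤) := by
  letI : (f.fiber y).Over (Spec (CommRingCat.of (Y.residueField y))) := ⟨f.fiberToSpecResidueField y⟩
  let M := CohIII.fiberMod f L y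
  refine Eq.trans (W7Cech.gsH0L (Y.residueField y) M).symm.finrank_eq ?_
  symm
  let T : Γ(f.fiber y, ⊤) →ₗ[Y.residueField y] ((CohIII.globalSectionsA (Y.residueField y)).obj M : Type u) :=
    { toFun := fun x => i.inv.app ⊤ x
      map_add' := fun a b => map_add (i.inv.app ⊤).hom a b
      map_smul' := fun c x => by
        rw [Algebra.smul_def]
        exact Scheme.Modules.Hom.app_smul i.inv (U := ⊤) (algebraMap (Y.residueField y) Γ(f.fiber y, ⊤) c) x }
  exact (LinearEquiv.ofBijective T (ConcreteCategory.bijective_of_isIso (i.inv.app ⊤))).finrank_eq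

/-- Upper semicontinuity of `h⁰` of the fibres of an invertible module. -/
theorem isOpen_fiberRank_lt_lfp [IsProper f] [Flat f] [LocallyOfFinitePresentation f] (L : X.Modules) (hL : PicF.IsInvertible L) (n : ℕ) :
    IsOpen {y : Y | CohIII.fiberRank f L 0 y < n} := by
  have hF := W7Hull.isFP_of_isInvertible hL
  refine isOpen_iff_forall_mem_open.2 fun y hy => ?_
  obtain ⟨V, hV, hyV, -⟩ := exists_isAffineOpen_mem_and_subset (X := Y) (x := y) (U := ⊤) trivial
  obtain ⟨m⟩ := W7Cech.nonempty_ModelNN f (FibDepth.isQCoh_of_isFP hF) hF (W7Hull.isFlatOver_of_isInvertible f hL) hV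
  let W : Set (PrimeSpectrum Γ(Y, V)) := {x | CohIII.dRank m.L ((0 : ℕ) : ℤ) x < n}
  have hW : IsOpen W := upperSemicontinuous_iff_isOpen_preimage.1
    (FlatCx.upperSemicontinuous_dRank m.L (W7Cech.finiteFlatX m.L m.hL) (W7Cech.finitePresentationX m.L m.hL) _) n
  refine ⟨hV.fromSpec '' W, ?_, hV.fromSpec.isOpenEmbedding.isOpenMap W hW,
    hV.primeIdealOf ⟨y, hyV⟩, ?_, hV.fromSpec_primeIdealOf ⟨y, hyV⟩⟩
  · rintro _ ⟨x, hx, rfl⟩
    exact (m.hrk 0 x).trans_lt hx
  · refine (m.hrk 0 _).symm.trans_lt ?_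
    rw [show hV.fromSpec (hV.primeIdealOf ⟨y, hyV⟩) = y from hV.fromSpec_primeIdealOf ⟨y, hyV⟩]
    exact hy

variable [IsProper f] [Flat f] [IsLocallyNoetherian Y]

/-- The same over a locally Noetherian base. -/
theorem isOpen_fiberRank_lt (L : X.Modules) (hL : PicF.IsInvertible L) (n : ℕ) :
    IsOpen {y : Y | CohIII.fiberRank f L 0 y < n} := by
  haveI : LocallyOfFinitePresentation f := InfLift.lfp_of_lft f
  exact isOpen_fiberRank_lt_lfp f L hL n

variable [IsReduced Y]

/-- Constant `h⁰` over a reduced base makes `T⁰` exact. -/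
theorem exists_nhd_epi_of_rank (L : X.Modules) (hL : PicF.IsInvertible L) (n : ℕ)
    (hn : ∀ y, CohIII.fiberRank f L 0 y = n) (y : Y) :
    ∃ W : Y.Opens, y ∈ W ∧ ∀ (U : Y.Opens) (hU : IsAffineOpen U), U ≤ W → ∀ m : W7Cech.ModelNN f L hU,
      (CohIII.TFun m.L 0).PreservesEpimorphisms := by
  haveI : LocallyOfFinitePresentation f := InfLift.lfp_of_lft f
  refine ⟨⊤, trivial, fun U hU _ m => ?_⟩
  haveI : IsNoetherianRing Γ(Y, U) := IsLocallyNoetherian.component_noetherian ⟨U, hU⟩
  refine (W7Cech.exact_of_dRank_locallyConstant m.L m.hL ((0 : ℕ) : ℤ) ?_).2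
  rw [show CohIII.dRank m.L ((0 : ℕ) : ℤ) = fun _ => n from
    funext fun x => ((m.hrk 0 x).symm.trans (hn _))]
  exact IsLocallyConstant.const n

omit [Flat f] [IsLocallyNoetherian Y] [IsReduced Y] in
/-- Local bijectivity of `f.app` is global. -/
theorem app_bijective_of_local (h : ∀ y : Y, ∃ U : Y.Opens, y ∈ U ∧ ∀ V : Y.Opens, V ≤ U → Function.Bijective (f.app V).hom)
    (W : Y.Opens) : Function.Bijective (f.app W).hom := by
  let φ : Coh.structureModule Y ⟶ (Scheme.Modules.pushforward f).obj (Coh.structureModule X) :=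
    SheafOfModules.unitToPushforwardObjUnit f.toRingCatSheafHom
  haveI : Epi φ := InvGen.epi_of_locally φ fun U t y hy => by
    obtain ⟨V, hyV, hV⟩ := h y
    exact ⟨U ⊓ V, inf_le_left, ⟨hy, hyV⟩, (hV _ inf_le_right).2 _⟩
  haveI : Mono φ := (QC.mono_iff_app_injective _).2 fun W s t hst => QC.section_eq_of_locally fun y hy => by
    obtain ⟨V, hyV, hV⟩ := h y
    refine ⟨W ⊓ V, inf_le_left, ⟨hy, hyV⟩, (hV _ inf_le_right).1 ?_⟩
    change φ.app (W ⊓ V) _ = φ.app (W ⊓ V) _
    rw [← app_res φ, ← app_res φ, hst]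
  haveI := isIso_of_mono_of_epi φ
  exact ConcreteCategory.bijective_of_isIso (φ.app W)

omit [Flat f] [IsLocallyNoetherian Y] [IsReduced Y] [IsProper f] in
/-- Generators over preimages of opens of the base. -/
theorem isGen_push (hb : ∀ W : Y.Opens, Function.Bijective (f.app W).hom) {L : X.Modules} {U : Y.Opens}
    {g : Γ(L, f ⁻¹ᵁ U)} (hg : IsGen g) :
    IsGen (N := (Scheme.Modules.pushforward f).obj L) (U := U) g := fun W hW =>
  (hg (f ⁻¹ᵁ W) (f.preimage_mono hW)).comp (hb W)

omit [Flat f] [IsLocallyNoetherian Y] [IsReduced Y] [IsProper f] in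
/-- A module trivial over the base is the pullback of its direct image. -/
theorem seesaw_formal (hb : ∀ W : Y.Opens, Function.Bijective (f.app W).hom) (L : X.Modules)
    (hL : PicF.IsInvertible L) (h : ∀ y : Y, ∃ (U : Y.Opens) (g : Γ(L, f ⁻¹ᵁ U)), y ∈ U ∧ IsGen g) :
    PicF.IsInvertible ((Scheme.Modules.pushforward f).obj L) ∧
      IsIso ((Scheme.Modules.pullbackPushforwardAdjunction f).counit.app L) := by
  let R := (Scheme.Modules.pushforward f).obj L
  have hR : PicF.IsInvertible R := InvGen.isInvertible fun y => by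
    obtain ⟨U, g, hy, hg⟩ := h y
    exact ⟨U, g, hy, isGen_push f hb hg⟩
  refine ⟨hR, ?_⟩
  let M := (Scheme.Modules.pullback f).obj R
  let ε : M ⟶ L := (Scheme.Modules.pullbackPushforwardAdjunction f).counit.app L
  have hloc : ∀ x : X, ∃ U : X.Opens, x ∈ U ∧ ∀ W : X.Opens, W ≤ U → Function.Bijective (ε.app W) := by
    intro x
    obtain ⟨U, g, hy, hg⟩ := h (f x)
    refine ⟨f ⁻¹ᵁ U, hy, fun W hW => ?_⟩
    have hgen := SymAlg.isGen_pullθ f (Iso.refl M) (PicLoc.isInvertible_pullback f hR)
      (TMul.isQCoh_of_isInvertible hR) (V := U) g (isGen_push f hb hg)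
    have htri := (Scheme.Modules.pullbackPushforwardAdjunction f).right_triangle_components L
    have hval : ε.app (f ⁻¹ᵁ U) ((SymAlg.pullθ f (Iso.refl M)).app U g) = g :=
      (congrArg (ε.app (f ⁻¹ᵁ U)) (show (SymAlg.pullθ f (Iso.refl M)).app U g =
        ((Scheme.Modules.pullbackPushforwardAdjunction f).unit.app R).app U g from rfl)).trans congr(($htri).app U g)
    have h2 : (fun c : Γ(X, W) => ε.app W (c • res M hW ((SymAlg.pullθ f (Iso.refl M)).app U g))) =
        fun c : Γ(X, W) => c • res L hW g := by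
      funext c
      rw [Scheme.Modules.Hom.app_smul, ← app_res, hval]
    refine (Function.Bijective.of_comp_iff _ (hgen W hW)).1 ?_
    change Function.Bijective (fun c : Γ(X, W) => ε.app W (c • res M hW ((SymAlg.pullθ f (Iso.refl M)).app U g)))
    rw [h2]
    exact hg W hW
  haveI : Epi ε := InvGen.epi_of_locally ε fun U t y hy => by
    obtain ⟨V, hyV, hV⟩ := hloc y
    exact ⟨U ⊓ V, inf_le_left, ⟨hy, hyV⟩, (hV _ inf_le_right).2 _⟩
  haveI : Mono ε := (QC.mono_iff_app_injective _).2 fun W s t hst => QC.section_eq_of_locally fun y hy => by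
    obtain ⟨V, hyV, hV⟩ := hloc y
    refine ⟨W ⊓ V, inf_le_left, ⟨hy, hyV⟩, (hV _ inf_le_right).1 ?_⟩
    rw [← app_res ε, ← app_res ε, hst]
  exact isIso_of_mono_of_epi ε

/-- The seesaw theorem over a reduced base. -/
theorem seesaw (hy : ∀ y : Y, Function.Bijective ((f.fiberToSpecResidueField y).appTop.hom.comp
      (Scheme.ΓSpecIso (Y.residueField y)).inv.hom)) (L : X.Modules) (hL : PicF.IsInvertible L)
    (htriv : ∀ y : Y, Nonempty (CohIII.fiberMod f L y ≅ Coh.structureModule (f.fiber y))) :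
    PicF.IsInvertible ((Scheme.Modules.pushforward f).obj L) ∧
      IsIso ((Scheme.Modules.pullbackPushforwardAdjunction f).counit.app L) := by
  refine seesaw_formal f (app_bijective_of_local f fun y => W7Hull.exists_nhd_app_bijective f y (hy y)) L hL
    fun y => ?_
  exact W7Hull.exists_gen_near_of_epi f L hL y
    (exists_nhd_epi_of_rank f L hL 1 (fun z => fiberRank_eq_one f L z (hy z) (htriv z).some) y) (htriv y).some

end Groth.Agent.W7See
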