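import Groth.Agent.W7See.SubPieceMain
import Groth.Agent.W7See.Main
import Groth.Agent.ZeroSch.Basic
import Groth.Agent.CurveRR.Curve
import Groth.Agent.FpqcDescent.IdealGlue
import Mathlib.AlgebraicGeometry.Sites.Fpqc

/-!
The seesaw subscheme of a line bundle.
-/

set_option autoImplicit false
set_option backward.isDefEq.respectTransparency false
set_option backward.isDefEq.respectTransparency.types false
set_option linter.style.haveILetI false
set_option maxHeartbeats 2000000

universe u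

open CategoryTheory CategoryTheory.Limits AlgebraicGeometry TopologicalSpace Opposite
open Groth.Agent.W7Cech Groth.Agent.FlatCx
open Groth.Agent.QC (res res_res res_self)
open TMul (IsGen)

noncomputable section

namespace Groth.Agent.W7See

variable {X S : Scheme.{u}} {f : X ⟶ S} [IsProper f] [Flat f] [GeometricallyIntegral f] [IsLocallyNoetherian S]
  {L : X.Modules}

lemma app_map_eq_appTop {T Y : Scheme.{u}} (v : T ⟶ Y) {W : Y.Opens} (e : W = ⊤) (i : ⊤ ≤ v ⁻¹ᵁ W) :
    v.app W ≫ T.presheaf.map (homOfLE i).op = Y.presheaf.map (eqToHom e.symm).op ≫ v.appTop := by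
  subst e
  simp [Scheme.Hom.appTop]

/-- A point where `h⁰` vanishes has a presentation with zero generator. -/
theorem exists_cyc_zero (hL : PicF.IsInvertible L) {U : S.Opens} (hU : IsAffineOpen U) (y : S) (hy : y ∈ U)
    (h : CohIII.fiberRank f L 0 y = 0) :
    ∃ C : Cyc (f := f) L U hU, y ∈ S.basicOpen C.a ∧ C.J = ⊤ := by
  haveI : LocallyOfFinitePresentation f := InfLift.lfp_of_lft f
  haveI : IsNoetherianRing Γ(S, U) := IsLocallyNoetherian.component_noetherian ⟨U, hU⟩
  obtain ⟨m⟩ := nonempty_ModelNN f (TMul.isQCoh_of_isInvertible hL) (W7Hull.isFP_of_isInvertible hL)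
    (W7Hull.isFlatOver_of_isInvertible f hL) hU
  obtain ⟨Q, hQ, ⟨η⟩⟩ := exists_corep f m
  haveI := hQ
  let x := hU.primeIdealOf ⟨y, hy⟩
  have hx : CohIII.dRank m.L ((0 : ℕ) : ℤ) x = 0 := by
    rw [← m.hrk 0 x, show hU.fromSpec x = y from hU.fromSpec_primeIdealOf ⟨y, hy⟩]
    exact h
  have h0 : x ∉ Module.support Γ(S, U) Q := by
    rw [Module.mem_support_iff_nontrivial_residueField_tensorProduct, not_nontrivial_iff_subsingleton]
    haveI : Module.Free x.asIdeal.ResidueField (TensorProduct Γ(S, U) x.asIdeal.ResidueField Q) :=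
      Module.Free.of_divisionRing _ _
    haveI : Module.Finite x.asIdeal.ResidueField (TensorProduct Γ(S, U) x.asIdeal.ResidueField Q) :=
      Module.Finite.base_change _ _ _
    haveI : Module.IsTorsionFree x.asIdeal.ResidueField (TensorProduct Γ(S, U) x.asIdeal.ResidueField Q) :=
      Module.Free.instIsTorsionFree ..
    exact Module.finrank_zero_iff.1 ((finrank_tensor_eq_dRank m.L m.hL Q 0 η x).trans hx)
  rw [Module.support_eq_zeroLocus, PrimeSpectrum.mem_zeroLocus, SetLike.coe_subset_coe, SetLike.not_le_iff_exists] at h0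
  obtain ⟨a, ha, hax⟩ := h0
  refine ⟨⟨m, Q, η, a, 0, fun v => ⟨0, ?_⟩⟩, (WeakAssLib.mem_primeIdealOf hU hy a).2 hax, ?_⟩
  · rw [zero_smul, Module.mem_annihilator.1 ha v]
  · exact eq_top_iff.2 fun j _ => smul_zero j

/-- Where the bundle is not trivial on the fibre some presentation exists on both sides or one side is zero. -/
theorem rank_cases (hL : PicF.IsInvertible L) {L' : X.Modules} (hL' : PicF.IsInvertible L')
    (ε : CohB1.tensorMod L L' ≅ Coh.structureModule X) (y : S) :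
    (CohIII.fiberRank f L 0 y ≤ 1 ∧ CohIII.fiberRank f L' 0 y ≤ 1) ∨ CohIII.fiberRank f L 0 y = 0 ∨
      CohIII.fiberRank f L' 0 y = 0 := by
  haveI := geometricallyConnected_of_geometricallyIntegral f
  by_cases h1 : CohIII.fiberRank f L 0 y = 0
  · exact Or.inr (Or.inl h1)
  by_cases h2 : CohIII.fiberRank f L' 0 y = 0
  · exact Or.inr (Or.inr h2)
  refine Or.inl ?_
  have hsec : ∀ M : X.Modules, CohIII.fiberRank f M 0 y ≠ 0 → ∃ s : Γ(CohIII.fiberMod f M y, ⊤), s ≠ 0 := by
    intro M hM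
    haveI : Nontrivial (Coh.HH (f.fiber y) (CohIII.fiberMod f M y) 0) :=
      Module.nontrivial_of_finrank_pos (R := S.residueField y) (Nat.pos_of_ne_zero hM)
    exact exists_ne_zero_of_nontrivial _
  obtain ⟨s, hs⟩ := hsec L h1
  obtain ⟨t, ht⟩ := hsec L' h2
  obtain ⟨b⟩ := TMul.nonempty_pullTensorIso (f.fiberι y) L L'
  let j : CohB1.tensorMod (CohIII.fiberMod f L y) (CohIII.fiberMod f L' y) ≅ Coh.structureModule (f.fiber y) :=
    b ≪≫ (Scheme.Modules.pullback (f.fiberι y)).mapIso ε ≪≫ PicLoc.pullbackStructureIso (f.fiberι y)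
  obtain ⟨i⟩ := nonempty_iso_unit_of_sections (isUnit_of_bijective (bijective_fiber f y))
    (PicLoc.isInvertible_pullback _ hL) (PicLoc.isInvertible_pullback _ hL') j hs ht
  exact ⟨(fiberRank_eq_one f L y (bijective_fiber f y) i).le, (fiberRank_eq_one f L' y (bijective_fiber f y)
    ((TMul.leftUnitIso _).symm ≪≫ PicGrp.tensorModIso i.symm (Iso.refl _) ≪≫ j)).le⟩

variable (f L)

/-- The local data of the seesaw subscheme. -/
structure Piece (y : S) where
  D : S.Opens
  hD : IsAffineOpen D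
  mem : y ∈ D
  I : Ideal Γ(S, D)
  lt : LT f L (piece hD I)
  le : ∀ (T : Scheme.{u}) (u : T ⟶ S), LT f L u → ∀ (V : T.Opens) (hV : V ≤ u ⁻¹ᵁ D),
    I ≤ RingHom.ker (u.appLE D V hV).hom

variable {f L}

/-- Local pieces exist everywhere. -/
theorem nonempty_piece (hL : PicF.IsInvertible L) (y : S) : Nonempty (Piece f L y) := by
  obtain ⟨L', hL', ⟨ε⟩⟩ := W7Hull.exists_tensor_inverse hL
  obtain ⟨U, hU, hy, -⟩ := exists_isAffineOpen_mem_and_subset (X := S) (x := y) (U := ⊤) trivial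
  have hkill : ∀ {L₀ : X.Modules} (hL₀ : PicF.IsInvertible L₀) (C : Cyc (f := f) L₀ U hU) (a : Γ(S, U))
      (_ : ∀ j ∈ C.J, ∀ v : C.Q, ∃ n : ℕ, a ^ n • j • v = 0) (T : Scheme.{u}) (u : T ⟶ S) (_ : LT f L₀ u)
      (V : T.Opens) (hV : V ≤ u ⁻¹ᵁ S.basicOpen a),
      C.J ≤ (RingHom.ker (u.appLE (S.basicOpen a) V hV).hom).comap (QC.resO S (S.basicOpen_le a)) := by
    intro L₀ hL₀ C a hC T u hu V hV j hj
    have h := appLE_eq_zero_of_LT hL₀ C.m C.Q C.η (hC j hj) hu
      (hV.trans (u.preimage_mono (S.basicOpen_le a))) fun t ht => hV ht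
    exact (congr(($(Scheme.Hom.map_appLE u hV (homOfLE (S.basicOpen_le a)).op)).hom j)).trans h
  have hzero : ∀ {L₀ : X.Modules} (hL₀ : PicF.IsInvertible L₀),
      (∀ (T : Scheme.{u}) (u : T ⟶ S), LT f L u → LT f L₀ u) → CohIII.fiberRank f L₀ 0 y = 0 →
        Nonempty (Piece f L y) := by
    intro L₀ hL₀ hLT h0
    obtain ⟨C, hyC, hJ⟩ := exists_cyc_zero hL₀ hU y hy h0
    have hI : (⊤ : Ideal Γ(S, S.basicOpen C.a)) = C.J.map (QC.resO S (S.basicOpen_le C.a)) := by
      rw [hJ, Ideal.map_top]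
    refine ⟨⟨_, hU.basicOpen C.a, hyC, ⊤, fun t => ?_, fun T u hu V hV => ?_⟩⟩
    · haveI : Subsingleton (CommRingCat.of (Γ(S, S.basicOpen C.a) ⧸ (⊤ : Ideal Γ(S, S.basicOpen C.a)))) :=
        inferInstanceAs (Subsingleton (Γ(S, S.basicOpen C.a) ⧸ (⊤ : Ideal Γ(S, S.basicOpen C.a))))
      exact isEmptyElim (show PrimeSpectrum (CommRingCat.of (Γ(S, S.basicOpen C.a) ⧸ (⊤ : Ideal Γ(S, S.basicOpen C.a)))) from t)
    · rw [hI, Ideal.map_le_iff_le_comap]
      refine hkill hL₀ C C.a (fun j hj v => ?_) T u (hLT T u hu) V hV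
      simpa using Cyc.kills C hj (b := 1) v
  rcases rank_cases (f := f) hL hL' ε y with ⟨h1, h2⟩ | h0 | h0
  · obtain ⟨C, hyC⟩ := exists_cyc hL hU y hy h1
    obtain ⟨C', hyC'⟩ := exists_cyc hL' hU y hy h2
    refine ⟨⟨_, hU.basicOpen (C.a * C'.a), by rw [Scheme.basicOpen_mul]; exact ⟨hyC, hyC'⟩, _,
      lt_piece hL hL' ε C C', fun T u hu V hV => ?_⟩⟩
    rw [Ideal.map_le_iff_le_comap, sup_le_iff]
    refine ⟨hkill hL C _ (fun j hj v => Cyc.kills C hj v) T u hu V hV,
      hkill hL' C' _ (fun j hj v => ?_) T u (hu.inverse hL hL' ε) V hV⟩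
    rw [mul_comm C.a]
    exact Cyc.kills C' hj v
  · exact hzero hL (fun _ _ h => h) h0
  · exact hzero hL' (fun _ _ h => h.inverse hL hL' ε) h0

variable {y : S}

/-- The closed immersion of a piece into its open. -/
def Piece.c (P : Piece f L y) : Spec (CommRingCat.of (Γ(S, P.D) ⧸ P.I)) ⟶ P.D.toScheme :=
  Spec.map (CommRingCat.ofHom (Ideal.Quotient.mk P.I)) ≫ P.hD.isoSpec.inv

instance (P : Piece f L y) : IsClosedImmersion P.c := by
  haveI : IsClosedImmersion (Spec.map (CommRingCat.ofHom (Ideal.Quotient.mk P.I))) :=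
    IsClosedImmersion.spec_of_surjective _ Ideal.Quotient.mk_surjective
  delta Piece.c
  infer_instance

lemma Piece.c_ι (P : Piece f L y) : P.c ≫ P.D.ι = piece P.hD P.I := Category.assoc _ _ _

/-- The piece represents local triviality over its open. -/
theorem Piece.ker_le_iff (P : Piece f L y) {T : Scheme.{u}} (v : T ⟶ P.D.toScheme) :
    P.c.ker ≤ v.ker ↔ LT f L (v ≫ P.D.ι) := by
  constructor
  · intro h
    refine P.lt.comp (IsClosedImmersion.lift P.c v h) _ ?_
    rw [← P.c_ι, ← Category.assoc, IsClosedImmersion.lift_fac]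
  · intro h
    have hle : (⊤ : T.Opens) ≤ (v ≫ P.D.ι) ⁻¹ᵁ P.D := fun t _ => (v t).2
    let ψ := (v ≫ P.D.ι).appLE P.D ⊤ hle
    let φ : CommRingCat.of (Γ(S, P.D) ⧸ P.I) ⟶ Γ(T, ⊤) :=
      CommRingCat.ofHom (Ideal.Quotient.lift P.I ψ.hom fun j hj => P.le T _ h ⊤ hle hj)
    let w := T.toSpecΓ ≫ Spec.map φ
    have hw : w ≫ P.c = v := by
      rw [← cancel_mono P.hD.isoSpec.hom, Piece.c]
      simp only [w, Category.assoc, Iso.inv_hom_id, Category.comp_id, ← Spec.map_comp]
      rw [show CommRingCat.ofHom (Ideal.Quotient.mk P.I) ≫ φ = ψ from CommRingCat.hom_ext (RingHom.ext fun x => rfl),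
        IsAffineOpen.isoSpec_hom, Scheme.Opens.toSpecΓ, Scheme.toSpecΓ_naturality_assoc v, ← Spec.map_comp]
      refine congrArg (fun z => T.toSpecΓ ≫ Spec.map z) ?_
      simp only [ψ, Scheme.Hom.comp_appLE, Scheme.Opens.ι_app]
      rw [Scheme.Hom.appLE, app_map_eq_appTop v P.D.ι_preimage_self]
      exact (Category.assoc _ _ _).symm.trans (congrArg (· ≫ v.appTop) (S.presheaf.map_comp _ _).symm)
    rw [← hw]
    exact Scheme.Hom.le_ker_comp w P.c

/-- **The seesaw subscheme.** -/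
theorem exists_subscheme (hL : PicF.IsInvertible L) :
    ∃ K : S.IdealSheafData, ∀ (T : Scheme.{u}) (u : T ⟶ S), IsLocallyNoetherian T → (K ≤ u.ker ↔ LT f L u) := by
  let P : ∀ y : S, Piece f L y := fun y => (nonempty_piece hL y).some
  let g : ∀ y : S, (P y).D.toScheme ⟶ S := fun y => (P y).D.ι
  have hg : Presieve.ofArrows (fun y => (P y).D.toScheme) g ∈ Scheme.fpqcPrecoverage S :=
    Scheme.zariskiPrecoverage_le_fpqcPrecoverage _ ((Scheme.ofArrows_mem_precoverage_iff @IsOpenImmersion).2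
      ⟨fun s => ⟨s, ⟨⟨s, (P s).mem⟩, rfl⟩⟩, fun y => inferInstanceAs (IsOpenImmersion (P y).D.ι)⟩)
  have hcomap : ∀ (y : S) {T : Scheme.{u}} (v : T ⟶ (P y).D.toScheme),
      (P y).c.ker.comap v = ⊥ ↔ LT f L (v ≫ g y) := by
    intro y T v
    rw [← le_bot_iff, ← Scheme.IdealSheafData.le_map_iff_comap_le, Scheme.IdealSheafData.map_bot]
    exact (P y).ker_le_iff v
  have hle : ∀ (y : S) {R T : Scheme.{u}} (w : T ⟶ R) (k : R ⟶ (P y).D.toScheme),
      (P y).c.ker.comap k ≤ w.ker ↔ LT f L (w ≫ k ≫ g y) := by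
    intro y R T w k
    rw [← Category.assoc, ← (P y).ker_le_iff (w ≫ k), ← Scheme.IdealSheafData.map_ker,
      ← Scheme.IdealSheafData.le_map_iff_comap_le]
  have hcompat : ∀ i j, (P i).c.ker.comap (pullback.fst (g i) (g j)) = (P j).c.ker.comap (pullback.snd (g i) (g j)) := by
    intro i j
    refine le_antisymm ?_ ?_
    · let B := (P j).c.ker.comap (pullback.snd (g i) (g j))
      have h := (hle j B.subschemeι (pullback.snd (g i) (g j))).1 B.ker_subschemeι.ge
      rw [← pullback.condition] at h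
      exact ((hle i B.subschemeι (pullback.fst (g i) (g j))).2 h).trans B.ker_subschemeι.le
    · let B := (P i).c.ker.comap (pullback.fst (g i) (g j))
      have h := (hle i B.subschemeι (pullback.fst (g i) (g j))).1 B.ker_subschemeι.ge
      rw [pullback.condition] at h
      exact ((hle j B.subschemeι (pullback.snd (g i) (g j))).2 h).trans B.ker_subschemeι.le
  obtain ⟨K, hK, -⟩ := FpqcDescent.existsUnique_descent hg (fun y => (P y).c.ker) hcompat
  refine ⟨K, fun T u hT => ?_⟩
  let U : S → T.Opens := fun y => u ⁻¹ᵁ (P y).D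
  have hT' : Presieve.ofArrows (fun y => (U y).toScheme) (fun y => (U y).ι) ∈ Scheme.zariskiPrecoverage T :=
    (Scheme.ofArrows_mem_precoverage_iff @IsOpenImmersion).2
      ⟨fun t => ⟨u t, ⟨⟨t, (P (u t)).mem⟩, rfl⟩⟩, fun y => inferInstanceAs (IsOpenImmersion (U y).ι)⟩
  have hloc : ∀ y, (K.comap u).comap (U y).ι = (P y).c.ker.comap (u ∣_ (P y).D) := fun y => by
    rw [← hK y, ← Scheme.IdealSheafData.comap_comp, ← Scheme.IdealSheafData.comap_comp, morphismRestrict_ι]
  rw [← Scheme.IdealSheafData.map_bot, Scheme.IdealSheafData.le_map_iff_comap_le, le_bot_iff]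
  refine ⟨fun h => lt_of_local fun t => ⟨U (u t), (P (u t)).mem, ?_⟩, fun h => ?_⟩
  · have h1 := (hcomap (u t) (u ∣_ (P (u t)).D)).1 (by rw [← hloc, h, Scheme.IdealSheafData.comap_bot])
    rwa [morphismRestrict_ι] at h1
  · have key : ∀ y, (K.comap u).comap (U y).ι = ⊥ := fun y => by
      rw [hloc, hcomap, morphismRestrict_ι]
      exact h.comp (U y).ι _ rfl
    obtain ⟨J, -, huniq⟩ := FpqcDescent.existsUnique_descent (g := fun y => (U y).ι)
      (Scheme.zariskiPrecoverage_le_fpqcPrecoverage _ hT') (fun _ => ⊥)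
      (fun _ _ => by rw [Scheme.IdealSheafData.comap_bot, Scheme.IdealSheafData.comap_bot])
    exact (huniq _ key).trans (huniq ⊥ fun y => Scheme.IdealSheafData.comap_bot _).symm

end Groth.Agent.W7See

namespace Groth.Agent.W7See

variable {X S : Scheme.{u}} (f : X ⟶ S) [IsProper f] [Flat f] [GeometricallyIntegral f] [IsLocallyNoetherian S]

/-- Local triviality over the base, as being a pullback of a line bundle. -/
theorem exists_iff_lt (L : X.Modules) (hL : PicF.IsInvertible L) {T : Scheme.{u}} (u : T ⟶ S) :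
    LT f L u ↔ ∃ M : T.Modules, FlatMod.IsFinLocFreeOfRank 1 M ∧
      Nonempty ((Scheme.Modules.pullback (pullback.fst f u)).obj L ≅
        (Scheme.Modules.pullback (pullback.snd f u)).obj M) := by
  haveI : LocallyOfFinitePresentation f := InfLift.lfp_of_lft f
  constructor
  · intro h
    haveI := geometricallyConnected_of_geometricallyIntegral (pullback.snd f u)
    have hb : ∀ W : T.Opens, Function.Bijective ((pullback.snd f u).app W).hom :=
      app_bijective_of_local (pullback.snd f u) fun t =>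
        W7Hull.exists_nhd_app_bijective_of_lfp (pullback.snd f u) t (bijective_fiber (pullback.snd f u) t)
    obtain ⟨hM, hε⟩ := seesaw_formal (pullback.snd f u) hb _ (PicLoc.isInvertible_pullback _ hL)
      fun t => let ⟨V, ht, g, hg⟩ := h t; ⟨V, g, ht, hg⟩
    haveI := hε
    exact ⟨_, CurveRR.isFinLocFreeOfRank_one hM,
      ⟨(asIso ((Scheme.Modules.pullbackPushforwardAdjunction (pullback.snd f u)).counit.app _)).symm⟩⟩
  · rintro ⟨M, hM, ⟨φ⟩⟩ t
    obtain ⟨V, e, ht, he⟩ := TMul.exists_isGen (ZeroSch.isInvertible_of_rankOne hM) t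
    exact ⟨V, ht, _, isGen_app φ.symm (C1Cap.isGen_eta (pullback.snd f u) he)⟩

end Groth.Agent.W7See
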