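import Groth.Agent.W7Cech.Grauert
import Groth.Agent.W7Cech.BC0Epi
import Mathlib.RingTheory.LocalRing.ResidueField.Ideal
import Mathlib.RingTheory.LocalRing.Module
import Mathlib.LinearAlgebra.Dual.Lemmas

/-!
Modules of fibre rank at most one are locally cyclic; a cyclic corepresenting module with a faithful value is free.
-/

set_option autoImplicit false
set_option backward.isDefEq.respectTransparency false
set_option backward.isDefEq.respectTransparency.types false
set_option linter.style.haveILetI false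
set_option maxHeartbeats 1000000

universe u

open CategoryTheory CategoryTheory.Limits Opposite
open Groth.Agent.FlatCx Groth.Agent.W7Cech
open scoped TensorProduct

noncomputable section

namespace Groth.Agent.W7See

variable {A : Type u} [CommRing A]

/-- An `A`-linear equivalence of vector spaces over a residue field is linear over the residue field. -/
def residueLinearEquiv (x : PrimeSpectrum A) {V W : Type u} [AddCommGroup V] [Module A V]
    [Module x.asIdeal.ResidueField V] [IsScalarTower A x.asIdeal.ResidueField V] [AddCommGroup W] [Module A W]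
    [Module x.asIdeal.ResidueField W] [IsScalarTower A x.asIdeal.ResidueField W] (e : V ≃ₗ[A] W) :
    V ≃ₗ[x.asIdeal.ResidueField] W :=
  { e with
    map_smul' := fun c v => by
      obtain ⟨⟨a, b⟩, hab⟩ := IsLocalization.surj (nonZeroDivisors (A ⧸ x.asIdeal)) c
      obtain ⟨a₀, rfl⟩ := Ideal.Quotient.mk_surjective a
      obtain ⟨b₀, hb₀⟩ := Ideal.Quotient.mk_surjective b.1
      have hb : (algebraMap A x.asIdeal.ResidueField b₀) ≠ 0 := by
        intro h
        rw [IsScalarTower.algebraMap_apply A (A ⧸ x.asIdeal)] at h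
        have := IsFractionRing.injective (A ⧸ x.asIdeal) x.asIdeal.ResidueField (h.trans (map_zero _).symm)
        exact nonZeroDivisors.ne_zero b.2 (hb₀ ▸ this)
      have hc : algebraMap A x.asIdeal.ResidueField b₀ * c = algebraMap A x.asIdeal.ResidueField a₀ := by
        rw [mul_comm, IsScalarTower.algebraMap_apply A (A ⧸ x.asIdeal),
          IsScalarTower.algebraMap_apply A (A ⧸ x.asIdeal) _ a₀]
        exact (congrArg (fun z => c * algebraMap _ _ z) hb₀).trans hab
      refine IsUnit.smul_left_cancel (isUnit_iff_ne_zero.2 hb) |>.1 ?_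
      change (algebraMap A x.asIdeal.ResidueField b₀) • e (c • v) = (algebraMap A x.asIdeal.ResidueField b₀) • c • e v
      rw [algebraMap_smul, ← map_smul, ← algebraMap_smul x.asIdeal.ResidueField b₀ (c • v), smul_smul, smul_smul,
        hc, algebraMap_smul, algebraMap_smul, map_smul] }

/-- The rank of the corepresenting module at a point is the rank of the model there. -/
theorem finrank_tensor_eq_dRank (L : CochainComplex (ModuleCat.{u} A) ℤ)
    (hL : ∀ i, Module.Finite A (L.X i) ∧ Module.Free A (L.X i)) (Q : ModuleCat.{u} A) [Module.Finite A Q] (p : ℤ)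
    (η : CohIII.TFun L p ≅ (linearCoyoneda A (ModuleCat.{u} A)).obj (op Q)) (x : PrimeSpectrum A) :
    Module.finrank x.asIdeal.ResidueField (x.asIdeal.ResidueField ⊗[A] Q) = CohIII.dRank L p x := by
  let κ := x.asIdeal.ResidueField
  obtain ⟨i⟩ := nonempty_bcCx_T A L (B := κ) p
  let K := (CohIII.bcCx (algebraMap A κ) L).homology p
  letI : Module A K := Module.compHom K (algebraMap A κ)
  haveI : IsScalarTower A κ K := IsScalarTower.of_algebraMap_smul fun _ _ => rfl
  let e₀ : K ≃ₗ[A] ((Q : Type u) →ₗ[A] κ) :=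
    (i ≪≫ η.app (ModuleCat.of A κ)).toLinearEquiv.trans (ModuleCat.homLinearEquiv (R := A))
  let e : K ≃ₗ[κ] ((Q : Type u) →ₗ[A] κ) := residueLinearEquiv x e₀
  let e' : K ≃ₗ[κ] Module.Dual κ (κ ⊗[A] Q) := e.trans (LinearMap.liftBaseChangeEquiv κ)
  change _ = Module.finrank κ K
  rw [e'.finrank_eq, Subspace.dual_finrank_eq]

/-- A finite module of fibre rank at most one is cyclic nearby. -/
theorem exists_cyclic (Q : Type u) [AddCommGroup Q] [Module A Q] [Module.Finite A Q] (x : PrimeSpectrum A)
    (h : Module.finrank x.asIdeal.ResidueField (x.asIdeal.ResidueField ⊗[A] Q) ≤ 1) :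
    ∃ a : A, a ∉ x.asIdeal ∧ ∃ q : Q, ∀ v : Q, ∃ c : A, a • v = c • q := by
  let κ := x.asIdeal.ResidueField
  obtain ⟨q, hq⟩ : ∃ q : Q, Submodule.span κ {(1 : κ) ⊗ₜ[A] q} = (⊤ : Submodule κ (κ ⊗[A] Q)) := by
    by_cases h0 : ∀ q : Q, (1 : κ) ⊗ₜ[A] q = 0
    · refine ⟨0, eq_top_iff.2 fun t _ => ?_⟩
      have : t = 0 := by
        induction t using TensorProduct.induction_on with
        | zero => rfl
        | tmul c v => rw [show c ⊗ₜ[A] v = c • ((1 : κ) ⊗ₜ[A] v) by rw [TensorProduct.smul_tmul', smul_eq_mul, mul_one], h0, smul_zero]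
        | add a b ha hb => rw [ha trivial, hb trivial, add_zero]
      rw [this]; exact zero_mem _
    · push Not at h0
      obtain ⟨q, hq⟩ := h0
      refine ⟨q, Submodule.eq_top_of_finrank_eq ?_⟩
      have h1 : Module.finrank κ (Submodule.span κ {(1 : κ) ⊗ₜ[A] q}) = 1 := finrank_span_singleton hq
      have h2 := Submodule.finrank_le (Submodule.span κ {(1 : κ) ⊗ₜ[A] q})
      change Module.finrank κ (κ ⊗[A] Q) ≤ 1 at h
      omega
  let N : Submodule A Q := Submodule.span A {q}
  have hx : x ∉ Module.support A (Q ⧸ N) := by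
    rw [Module.mem_support_iff_nontrivial_residueField_tensorProduct, not_nontrivial_iff_subsingleton]
    refine subsingleton_of_forall_eq 0 fun t => ?_
    obtain ⟨s, rfl⟩ := LinearMap.lTensor_surjective κ N.mkQ_surjective t
    obtain ⟨c, rfl⟩ := Submodule.mem_span_singleton.1 (hq ▸ Submodule.mem_top : s ∈ Submodule.span κ {(1 : κ) ⊗ₜ[A] q})
    rw [TensorProduct.smul_tmul', LinearMap.lTensor_tmul,
      show N.mkQ q = 0 from (Submodule.Quotient.mk_eq_zero N).2 (Submodule.mem_span_singleton_self q),
      TensorProduct.tmul_zero]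
  rw [Module.support_eq_zeroLocus, PrimeSpectrum.mem_zeroLocus, SetLike.coe_subset_coe, SetLike.not_le_iff_exists] at hx
  obtain ⟨a, ha, hax⟩ := hx
  refine ⟨a, hax, q, fun v => ?_⟩
  have : a • N.mkQ v = 0 := Module.mem_annihilator.1 ha _
  rw [← map_smul, Submodule.mkQ_apply, Submodule.Quotient.mk_eq_zero, Submodule.mem_span_singleton] at this
  obtain ⟨c, hc⟩ := this
  exact ⟨c, hc.symm⟩

/-- When the annihilator of the cyclic generator dies on `a`, some functional takes the value `a ^ n` on it. -/
theorem exists_functional (Q : Type u) [AddCommGroup Q] [Module A Q] [IsNoetherianRing A] (a : A) (q : Q)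
    (hq : ∀ v : Q, ∃ c : A, a • v = c • q) (hJ : ∀ j : A, j • q = 0 → ∃ n, a ^ n * j = 0) :
    ∃ (n : ℕ) (φ : Q →ₗ[A] A), φ q = a ^ n := by
  let J : Ideal A := LinearMap.ker (LinearMap.toSpanSingleton A Q q)
  obtain ⟨S, hS⟩ := (IsNoetherian.noetherian J : J.FG)
  choose! k hk using hJ
  let N := S.sup k
  have hN : ∀ j : A, j • q = 0 → a ^ N * j = 0 := by
    intro j hj
    have hJmem : ∀ y : A, y ∈ Ideal.span (S : Set A) → y • q = 0 := fun y hy => by
      have h' : y ∈ J := by rw [← hS]; exact hy
      exact h'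
    have hj' : j ∈ Ideal.span (S : Set A) := by
      have h' : j ∈ J := hj
      rwa [← hS] at h'
    induction hj' using Submodule.span_induction with
    | mem s hs =>
      have hsJ : s • q = 0 := hJmem s (Ideal.subset_span hs)
      rw [← Nat.sub_add_cancel (show k s ≤ N from Finset.le_sup hs), pow_add, mul_assoc, hk s hsJ, mul_zero]
    | zero => rw [mul_zero]
    | add y z hy' hz' hy hz => rw [mul_add, hy (hJmem y hy'), hz (hJmem z hz'), add_zero]
    | smul c y hy' hy => rw [smul_eq_mul, mul_left_comm, hy (hJmem y hy'), mul_zero]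
  choose c hc using hq
  have key : ∀ d e : A, d • q = e • q → a ^ N * d = a ^ N * e := fun d e h => by
    rw [← sub_eq_zero, ← mul_sub]
    exact hN _ (by rw [sub_smul, h, sub_self])
  refine ⟨N + 1, { toFun := fun v => a ^ N * c v, map_add' := fun v w => ?_, map_smul' := fun r v => ?_ }, ?_⟩
  · rw [← mul_add]
    exact key _ _ (by rw [← hc, smul_add, add_smul, hc, hc])
  · rw [RingHom.id_apply, smul_eq_mul, mul_left_comm r]
    exact key _ _ (by rw [← hc, smul_comm, hc, mul_smul])
  · change a ^ N * c q = a ^ (N + 1)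
    rw [pow_succ]
    exact key _ _ (hc q).symm

/-- Then the next opcycles are free at every point where `a` does not vanish. -/
theorem mem_freeLocus_of_functional (L : CochainComplex (ModuleCat.{u} A) ℤ)
    (hL : ∀ i, Module.Finite A (L.X i) ∧ Module.Free A (L.X i)) (Q : ModuleCat.{u} A) (p : ℤ)
    (η : CohIII.TFun L p ≅ (linearCoyoneda A (ModuleCat.{u} A)).obj (op Q)) (a : A) (q : Q)
    (hq : ∀ v : Q, ∃ c : A, a • v = c • q) {n : ℕ} (φ : Q →ₗ[A] A) (hφ : φ q = a ^ n)
    (x : PrimeSpectrum A) (hx : a ∉ x.asIdeal) :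
    x ∈ Module.freeLocus A (Opc L p ((ComplexShape.up ℤ).next p)) := by
  rw [mem_freeLocus_iff_gen L hL]
  refine gen_of_natIso η.symm (eq_top_iff.2 fun ψ _ => ?_)
  let κ := x.asIdeal.ResidueField
  have ha : algebraMap A κ a ≠ 0 := fun h => hx ((Ideal.algebraMap_residueField_eq_zero).1 h)
  let ψ' : (Q : Type u) →ₗ[A] κ := (show Q ⟶ ModuleCat.of A κ from ψ).hom
  refine Submodule.mem_iSup_of_mem
    (ModuleCat.ofHom (LinearMap.toSpanSingleton A κ (ψ' q * (algebraMap A κ a ^ n)⁻¹))) ⟨ModuleCat.ofHom φ, ?_⟩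
  refine ModuleCat.hom_ext (LinearMap.ext fun v => ?_)
  change φ v • (ψ' q * (algebraMap A κ a ^ n)⁻¹) = ψ' v
  obtain ⟨c, hc⟩ := hq v
  refine mul_left_cancel₀ ha ?_
  have h1 : a • φ v = c * a ^ n := by rw [← map_smul, hc, map_smul, hφ, smul_eq_mul]
  have h2 : algebraMap A κ a * ψ' v = algebraMap A κ c * ψ' q := by
    rw [← Algebra.smul_def, ← Algebra.smul_def, ← map_smul, ← map_smul, hc]
  rw [h2, Algebra.smul_def, ← mul_assoc, ← map_mul, ← smul_eq_mul a, h1, map_mul, map_pow]
  rw [mul_assoc, mul_left_comm (algebraMap A κ a ^ n), mul_inv_cancel₀ (pow_ne_zero n ha), mul_one]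

end Groth.Agent.W7See
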