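import Groth.Agent.W7Cube.Pic
import Groth.Agent.W7Cube.GroupBase
import Groth.Agent.SymAlg.CanonImm
import Groth.Agent.C1Cap.PullGen

/-!
Bundles locally trivial over the base.
-/

set_option autoImplicit false
set_option backward.isDefEq.respectTransparency false
set_option backward.isDefEq.respectTransparency.types false
set_option linter.style.haveILetI false

universe u

open CategoryTheory CategoryTheory.Limits AlgebraicGeometry TopologicalSpace Opposite
open TMul (IsGen)
open Groth.Agent.QC (res res_res res_self app_res)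

noncomputable section

namespace Groth.Agent.W7See

/-- Isomorphisms keep generators. -/
lemma isGen_app {P : Scheme.{u}} {M N : P.Modules} (φ : M ≅ N) {W : P.Opens} {e : Γ(M, W)} (he : IsGen e) :
    IsGen (φ.hom.app W e) := fun V hV => by
  have h : (fun c : Γ(P, V) => c • res N hV (φ.hom.app W e)) = (φ.hom.app V) ∘ fun c => c • res M hV e := by
    funext c
    rw [Function.comp_apply, Scheme.Modules.Hom.app_smul, app_res]
  rw [h]
  exact (ConcreteCategory.bijective_of_isIso (φ.hom.app V)).comp (he V hV)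

/-- Generators of an inverse image along a composite. -/
lemma exists_gen_pullback_comp {P P' P'' : Scheme.{u}} (h : P'' ⟶ P') (k : P' ⟶ P) (l : P'' ⟶ P) (e : h ≫ k = l)
    (L : P.Modules) {W : P'.Opens} {g : Γ((Scheme.Modules.pullback k).obj L, W)} (hg : IsGen g)
    {W' : P''.Opens} (hW : W' ≤ h ⁻¹ᵁ W) :
    ∃ g' : Γ((Scheme.Modules.pullback l).obj L, W'), IsGen g' :=
  ⟨_, (isGen_app ((Scheme.Modules.pullbackComp h k).app L ≪≫ (Scheme.Modules.pullbackCongr e).app L)
    (C1Cap.isGen_eta h hg)).res hW⟩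

variable {X S : Scheme.{u}} (f : X ⟶ S) (L : X.Modules)

/-- The bundle is trivial locally over the base. -/
def LT {T : Scheme.{u}} (u : T ⟶ S) : Prop :=
  ∀ t : T, ∃ V : T.Opens, t ∈ V ∧
    ∃ g : Γ((Scheme.Modules.pullback (pullback.fst f u)).obj L, pullback.snd f u ⁻¹ᵁ V), IsGen g

variable {f L}

/-- Any pullback square may be used. -/
lemma LT.exists_gen {T P : Scheme.{u}} {u : T ⟶ S} (h : LT f L u) {g' : P ⟶ X} {f' : P ⟶ T}
    (sq : IsPullback g' f' f u) (t : T) :
    ∃ V : T.Opens, t ∈ V ∧ ∃ g : Γ((Scheme.Modules.pullback g').obj L, f' ⁻¹ᵁ V), IsGen g := by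
  obtain ⟨V, ht, g, hg⟩ := h t
  refine ⟨V, ht, exists_gen_pullback_comp sq.isoPullback.hom (pullback.fst f u) g' sq.isoPullback_hom_fst L hg ?_⟩
  rw [← Scheme.Hom.comp_preimage, sq.isoPullback_hom_snd]

/-- Local triviality is stable under base change. -/
lemma LT.comp {T T' : Scheme.{u}} {u : T ⟶ S} (h : LT f L u) (w : T' ⟶ T) (u' : T' ⟶ S) (e : w ≫ u = u') :
    LT f L u' := by
  intro t
  obtain ⟨V, ht, g, hg⟩ := h (w t)
  let k : pullback f u' ⟶ pullback f u := pullback.lift (pullback.fst f u') (pullback.snd f u' ≫ w)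
    (by rw [pullback.condition, Category.assoc, e])
  refine ⟨w ⁻¹ᵁ V, ht, exists_gen_pullback_comp k _ _ (pullback.lift_fst _ _ _) L hg ?_⟩
  rw [← Scheme.Hom.comp_preimage k, pullback.lift_snd, Scheme.Hom.comp_preimage]

/-- Local triviality is local on the base. -/
lemma lt_of_local {T : Scheme.{u}} {u : T ⟶ S}
    (h : ∀ t : T, ∃ U : T.Opens, t ∈ U ∧ LT f L (U.ι ≫ u)) : LT f L u := by
  intro t
  obtain ⟨U, htU, hU⟩ := h t
  let P := pullback f u
  let j : (pullback.snd f u ⁻¹ᵁ U).toScheme ⟶ P := (pullback.snd f u ⁻¹ᵁ U).ι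
  have sq : IsPullback (j ≫ pullback.fst f u) (pullback.snd f u ∣_ U) f (U.ι ≫ u) :=
    ((isPullback_morphismRestrict (pullback.snd f u) U).flip).paste_horiz (IsPullback.of_hasPullback f u)
  obtain ⟨V, htV, g, hg⟩ := hU.exists_gen sq ⟨t, htU⟩
  let G := (Scheme.Modules.pullback (pullback.fst f u)).obj L
  let φ : (Scheme.Modules.pullback (j ≫ pullback.fst f u)).obj L ≅ G.restrict j :=
    ((Scheme.Modules.pullbackComp j (pullback.fst f u)).app L).symm ≪≫
      ((Scheme.Modules.restrictFunctorIsoPullback j).app G).symm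
  refine ⟨U.ι ''ᵁ V, ⟨⟨t, htU⟩, htV, rfl⟩, _, (SymAlg.isGen_of_isGen_restrict j _ (isGen_app φ hg)).res ?_⟩
  rintro p ⟨v, hv, hvp⟩
  have hp : p ∈ pullback.snd f u ⁻¹ᵁ U := by
    change pullback.snd f u p ∈ U
    rw [← hvp]
    exact v.2
  refine ⟨⟨p, hp⟩, ?_, rfl⟩
  change (pullback.snd f u ∣_ U) ⟨p, hp⟩ ∈ V
  have e : U.ι ((pullback.snd f u ∣_ U) ⟨p, hp⟩) = U.ι v := by
    rw [← Scheme.Hom.comp_apply, morphismRestrict_ι, Scheme.Hom.comp_apply]
    exact hvp.symm
  rw [U.ι.isOpenEmbedding.injective e]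
  exact hv

/-- An inverse is locally trivial as well. -/
lemma LT.inverse {L' : X.Modules} (hL : PicF.IsInvertible L) (hL' : PicF.IsInvertible L')
    (ε : CohB1.tensorMod L L' ≅ Coh.structureModule X) {T : Scheme.{u}} {u : T ⟶ S} (h : LT f L u) :
    LT f L' u := by
  intro t
  obtain ⟨V, ht, g, hg⟩ := h t
  refine ⟨V, ht, ?_⟩
  let W := pullback.snd f u ⁻¹ᵁ V
  let G := (Scheme.Modules.pullback (pullback.fst f u)).obj L
  let G' := (Scheme.Modules.pullback (pullback.fst f u)).obj L'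
  let k : W.toScheme ⟶ X := W.ι ≫ pullback.fst f u
  letI := W7Cube.law W.toScheme
  letI := W7Cube.law X
  obtain ⟨i⟩ := InvGen.nonempty_iso W.ι G W.opensRange_ι.le g hg
  have h1 : W7Cube.pull k (PicGrp.cls L hL) = 1 := by
    rw [W7Cube.pull_cls, PicGrp.cls_eq_one_iff]
    exact ⟨((Scheme.Modules.pullbackComp W.ι _).app L).symm ≪≫
      ((Scheme.Modules.restrictFunctorIsoPullback W.ι).app G).symm ≪≫ i⟩
  have h2 : PicGrp.cls L hL * PicGrp.cls L' hL' = 1 := (PicGrp.cls_mul_cls_eq_one_iff hL hL').2 ⟨ε⟩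
  have h3 := congrArg (W7Cube.pull k) h2
  rw [map_mul, h1, _root_.one_mul, map_one, W7Cube.pull_cls, PicGrp.cls_eq_one_iff] at h3
  obtain ⟨i'⟩ := h3
  exact W7Cube.exists_gen_of_iso_preimage (pullback.snd f u) V G'
    ((Scheme.Modules.pullbackComp W.ι (pullback.fst f u)).app L' ≪≫ i')

end Groth.Agent.W7See
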