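import Groth.Agent.W7See.SubLocal
import Groth.Agent.W7See.SubAlg
import Groth.Agent.W7See.SubLT
import Groth.Agent.W7See.Locus
import Groth.Agent.W7Hull.PushOne

/-!
Local pieces of the seesaw subscheme.
-/

set_option autoImplicit false
set_option backward.isDefEq.respectTransparency false
set_option backward.isDefEq.respectTransparency.types false
set_option linter.style.haveILetI false
set_option maxHeartbeats 2000000

universe u

open CategoryTheory CategoryTheory.Limits AlgebraicGeometry TopologicalSpace Opposite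
open Groth.Agent.W7Cech Groth.Agent.FlatCx
open Groth.Agent.QC (res res_res res_self)
open TMul (IsGen)

noncomputable section

namespace Groth.Agent.W7See

section Alg

variable {A : Type u} [CommRing A] (L : CochainComplex (ModuleCat.{u} A) ℤ) (Q : ModuleCat.{u} A) {p : ℤ}
  (η : CohIII.TFun L p ≅ (linearCoyoneda A (ModuleCat.{u} A)).obj (op Q)) {a : A} (B : Type u) [CommRing B]
  [Algebra A B]

include η in
/-- An element killing the localised corepresenting module kills the values at algebras where `a` is a unit. -/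
lemma smul_T_eq_zero {j : A} (hj : ∀ v : Q, ∃ n : ℕ, a ^ n • j • v = 0) (ha : IsUnit (algebraMap A B a))
    (t : CohIII.T L p (ModuleCat.of A B)) : j • t = 0 := by
  let e : CohIII.T L p (ModuleCat.of A B) ≃ₗ[A] ((Q : Type u) →ₗ[A] B) :=
    (η.app (ModuleCat.of A B)).toLinearEquiv.trans (ModuleCat.homLinearEquiv (R := A))
  refine e.injective (LinearMap.ext fun v => ?_)
  rw [map_smul, map_zero, LinearMap.smul_apply, LinearMap.zero_apply]
  obtain ⟨n, hn⟩ := hj v
  refine (ha.pow n).mul_right_eq_zero.1 ?_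
  rw [← map_pow, ← Algebra.smul_def, ← map_smul, ← map_smul, hn, map_zero]

include η in
/-- The values at algebras where the cyclic presentation degenerates. -/
lemma exists_T_equiv_self (q : Q) (hq : ∀ v : Q, ∃ c : A, a • v = c • q)
    (hJ : ∀ j : A, j • q = 0 → algebraMap A B j = 0) (ha : IsUnit (algebraMap A B a)) :
    Nonempty (CohIII.T L p (ModuleCat.of A B) ≃ₗ[A] B) := by
  let e : CohIII.T L p (ModuleCat.of A B) ≃ₗ[A] ((Q : Type u) →ₗ[A] B) :=
    (η.app (ModuleCat.of A B)).toLinearEquiv.trans (ModuleCat.homLinearEquiv (R := A))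
  choose c hc using hq
  have key : ∀ d d' : A, d • q = d' • q → algebraMap A B d = algebraMap A B d' := fun d d' h => by
    rw [← sub_eq_zero, ← map_sub]
    exact hJ _ (by rw [sub_smul, h, sub_self])
  refine ⟨e.trans (LinearEquiv.ofBijective
    ({ toFun := fun ψ => ψ q, map_add' := fun _ _ => rfl, map_smul' := fun _ _ => rfl } :
      ((Q : Type u) →ₗ[A] B) →ₗ[A] B) ⟨fun ψ ψ' h => ?_, fun b => ?_⟩)⟩
  · refine LinearMap.ext fun v => ha.mul_left_cancel ?_
    rw [← Algebra.smul_def, ← Algebra.smul_def, ← map_smul, ← map_smul, hc, map_smul, map_smul]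
    exact congrArg (c v • ·) h
  · refine ⟨{ toFun := fun v => algebraMap A B (c v) * (↑ha.unit⁻¹ * b)
              map_add' := fun v w => ?_, map_smul' := fun r v => ?_ }, ?_⟩
    · rw [← add_mul, ← map_add, key (c (v + w)) (c v + c w) (by rw [← hc, smul_add, hc, hc, add_smul])]
    · rw [RingHom.id_apply, Algebra.smul_def, ← mul_assoc (algebraMap A B r), ← map_mul,
        key (c (r • v)) (r * c v) (by rw [← hc, smul_comm, hc, mul_smul])]
    · change algebraMap A B (c q) * (↑ha.unit⁻¹ * b) = b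
      rw [key (c q) a (hc q).symm, ← mul_assoc]
      nth_rw 1 [← ha.unit_spec]
      rw [Units.mul_inv, one_mul]

end Alg

variable {X S : Scheme.{u}} {f : X ⟶ S} [IsProper f] [LocallyOfFinitePresentation f] {F : X.Modules}
  [HasInjectiveResolutions X.Modules]

/-- A killing element kills the sections after base change. -/
theorem smul_sections_eq_zero (hq : Coh.IsQCoh F) {U : S.Opens} {hU : IsAffineOpen U} (m : ModelNN f F hU)
    (Q : ModuleCat.{u} Γ(S, U))
    (η : CohIII.TFun m.L 0 ≅ (linearCoyoneda Γ(S, U) (ModuleCat.{u} Γ(S, U))).obj (op Q)) {a j : Γ(S, U)}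
    (hj : ∀ v : Q, ∃ n : ℕ, a ^ n • j • v = 0)
    {T P : Scheme.{u}} {g : T ⟶ S} {f' : P ⟶ T} {g' : P ⟶ X} (sq : IsPullback g' f' f g)
    {V : T.Opens} (hV : IsAffineOpen V) (hVU : V ≤ g ⁻¹ᵁ U) (ha : IsUnit ((g.appLE U V hVU).hom a))
    (s : Γ((Scheme.Modules.pullback g').obj F, f' ⁻¹ᵁ V)) :
    (f'.app V).hom ((g.appLE U V hVU).hom j) • s = 0 := by
  letI : Algebra Γ(S, U) Γ(T, V) := (g.appLE U V hVU).hom.toAlgebra
  letI : Module Γ(S, U) (SM f' ((Scheme.Modules.pullback g').obj F) (f' ⁻¹ᵁ V) le_rfl : Type u) :=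
    Module.compHom _ (g.appLE U V hVU).hom
  obtain ⟨e⟩ := exists_T0_sections f hq m sq hV hVU
  obtain ⟨t, ht⟩ := e.surjective (show (SM f' ((Scheme.Modules.pullback g').obj F) (f' ⁻¹ᵁ V) le_rfl : Type u) from s)
  have h0 : j • (show (SM f' ((Scheme.Modules.pullback g').obj F) (f' ⁻¹ᵁ V) le_rfl : Type u) from s) = 0 := by
    rw [← ht, ← map_smul, smul_T_eq_zero m.L Q η Γ(T, V) hj ha, map_zero]
  rw [f'.app_eq_appLE]
  exact h0

/-- The coefficient of an element killing a generator vanishes. -/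
theorem appLE_eq_zero_of_gen (hq : Coh.IsQCoh F) {U : S.Opens} {hU : IsAffineOpen U} (m : ModelNN f F hU)
    (Q : ModuleCat.{u} Γ(S, U))
    (η : CohIII.TFun m.L 0 ≅ (linearCoyoneda Γ(S, U) (ModuleCat.{u} Γ(S, U))).obj (op Q)) {a j : Γ(S, U)}
    (hj : ∀ v : Q, ∃ n : ℕ, a ^ n • j • v = 0)
    {T P : Scheme.{u}} {g : T ⟶ S} {f' : P ⟶ T} {g' : P ⟶ X} (sq : IsPullback g' f' f g)
    {V : T.Opens} (hV : IsAffineOpen V) (hVU : V ≤ g ⁻¹ᵁ U) (ha : IsUnit ((g.appLE U V hVU).hom a))
    (hb : Function.Injective (f'.app V).hom) {e : Γ((Scheme.Modules.pullback g').obj F, f' ⁻¹ᵁ V)} (he : IsGen e) :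
    (g.appLE U V hVU).hom j = 0 := by
  have h := smul_sections_eq_zero hq m Q η hj sq hV hVU ha e
  refine hb (((he (f' ⁻¹ᵁ V) le_rfl).1 ?_).trans (map_zero _).symm)
  change _ • res _ le_rfl e = (0 : Γ(P, f' ⁻¹ᵁ V)) • res _ le_rfl e
  rw [QC.res_self, zero_smul]
  exact h

/-- Where the presentation degenerates the sections are the functions of the base. -/
theorem exists_sections_equiv (hq : Coh.IsQCoh F) {U : S.Opens} {hU : IsAffineOpen U} (m : ModelNN f F hU)
    (Q : ModuleCat.{u} Γ(S, U))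
    (η : CohIII.TFun m.L 0 ≅ (linearCoyoneda Γ(S, U) (ModuleCat.{u} Γ(S, U))).obj (op Q)) {a : Γ(S, U)} (q : Q)
    (hcyc : ∀ v : Q, ∃ c : Γ(S, U), a • v = c • q)
    {T P : Scheme.{u}} {g : T ⟶ S} {f' : P ⟶ T} {g' : P ⟶ X} (sq : IsPullback g' f' f g)
    {V : T.Opens} (hV : IsAffineOpen V) (hVU : V ≤ g ⁻¹ᵁ U) (ha : IsUnit ((g.appLE U V hVU).hom a))
    (hJ : ∀ j : Γ(S, U), j • q = 0 → (g.appLE U V hVU).hom j = 0) :
    ∃ e : Γ((Scheme.Modules.pullback g').obj F, f' ⁻¹ᵁ V) ≃+ Γ(T, V),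
      ∀ (c : Γ(S, U)) (s : _), e ((f'.app V).hom ((g.appLE U V hVU).hom c) • s) = (g.appLE U V hVU).hom c * e s := by
  letI : Algebra Γ(S, U) Γ(T, V) := (g.appLE U V hVU).hom.toAlgebra
  let M : Type u := (SM f' ((Scheme.Modules.pullback g').obj F) (f' ⁻¹ᵁ V) le_rfl : Type u)
  letI : Module Γ(S, U) M := Module.compHom _ (g.appLE U V hVU).hom
  obtain ⟨e⟩ := exists_T0_sections f hq m sq hV hVU
  obtain ⟨e'⟩ := exists_T_equiv_self m.L Q η Γ(T, V) q hcyc hJ ha
  let E : M ≃ₗ[Γ(S, U)] Γ(T, V) := e.symm.trans e'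
  refine ⟨{ toFun := fun s => E (show M from s)
            invFun := fun b => (E.symm b :)
            left_inv := fun s => E.symm_apply_apply (show M from s)
            right_inv := fun b => E.apply_symm_apply b
            map_add' := fun s t => E.map_add (show M from s) (show M from t) }, fun c s => ?_⟩
  rw [f'.app_eq_appLE]
  exact E.map_smul c (show M from s)

end Groth.Agent.W7See
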