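import Groth.Agent.W7Cech.BC0Epi
import Groth.Agent.W7Cech.Corep

/-!
`T⁰` of a model is the module of sections after base change; models with cyclic corepresenting module.
-/

set_option autoImplicit false
set_option backward.isDefEq.respectTransparency false
set_option backward.isDefEq.respectTransparency.types false
set_option linter.style.haveILetI false
set_option maxHeartbeats 1000000

universe u

open CategoryTheory CategoryTheory.Limits AlgebraicGeometry TopologicalSpace Opposite
open Groth.Agent.SiteCoh Groth.Agent.FlatCx Groth.Agent.W7Cech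
open Groth.Agent.QC (res resO res_res res_self res_smul)
open scoped TensorProduct

noncomputable section

namespace Groth.Agent.W7See

/-- In degree zero of a complex in nonnegative degrees the classes are the cocycles. -/
theorem cls_zero_bijective {A : Type u} [CommRing A] (C : CochainComplex (ModuleCat.{u} A) ℕ) (M : ModuleCat.{u} A) :
    Function.Bijective (cls C 0 M) := by
  refine ⟨(injective_iff_map_eq_zero _).2 fun z hz => ?_, cls_surjective C 0 M⟩
  obtain ⟨y, hy⟩ := (cls_eq_zero_iff C 0 M z).1 hz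
  refine Subtype.ext (hy.symm.trans ?_)
  rw [dT, C.shape _ _ (by simp)]
  simp

variable {X S : Scheme.{u}} (f : X ⟶ S) {F : X.Modules} [IsProper f] [LocallyOfFinitePresentation f]
  [HasInjectiveResolutions X.Modules]

/-- `T⁰` of a model at an algebra is the module of sections after base change. -/
theorem exists_T0_sections (hq : Coh.IsQCoh F) {U : S.Opens} {hU : IsAffineOpen U} (m : ModelNN f F hU)
    {T X' : Scheme.{u}} {g : T ⟶ S} {f' : X' ⟶ T} {g' : X' ⟶ X} (hsq : IsPullback g' f' f g)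
    {V : T.Opens} (hV : IsAffineOpen V) (hVU : V ≤ g ⁻¹ᵁ U) :
    letI : Algebra Γ(S, U) Γ(T, V) := (g.appLE U V hVU).hom.toAlgebra
    letI := Module.compHom (SM f' ((Scheme.Modules.pullback g').obj F) (f' ⁻¹ᵁ V) le_rfl : Type u)
      (g.appLE U V hVU).hom
    Nonempty (CohIII.T m.L (0 : ℤ) (ModuleCat.of Γ(S, U) Γ(T, V)) ≃ₗ[Γ(S, U)]
      (SM f' ((Scheme.Modules.pullback g').obj F) (f' ⁻¹ᵁ V) le_rfl : Type u)) := by
  let A : Type u := Γ(S, U)
  let B : Type u := Γ(T, V)
  let P := f ⁻¹ᵁ U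
  letI : P.toScheme.Over (Spec (CommRingCat.of Γ(S, U))) := ⟨(f ∣_ U) ≫ hU.isoSpec.hom⟩
  letI : Algebra A B := (g.appLE U V hVU).hom.toAlgebra
  have hle : f' ⁻¹ᵁ V ≤ g' ⁻¹ᵁ (f ⁻¹ᵁ U) := by
    rw [← Scheme.Hom.comp_preimage, hsq.w, Scheme.Hom.comp_preimage]
    exact f'.preimage_mono hVU
  obtain ⟨ι, hι, W, hW, hcov, -, -, ⟨e⟩⟩ := exists_bc_setup f hq hU hsq hV hVU hle
  haveI := hι
  let C := (CC A W).obj (F.restrict P.ι)
  obtain ⟨η⟩ := m.hT ι W hW hcov 0
  let e₁ := LinearEquiv.ofBijective (cls C 0 (ModuleCat.of A B)) (cls_zero_bijective C _)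
  have hk : LinearMap.ker (dT C B 0 ((ComplexShape.up ℕ).next 0)) =
      LinearMap.ker ((dL A W (F.restrict P.ι) 0).rTensor B) := by
    have key : ∀ k, k = 1 → LinearMap.ker (dT C B 0 k) = LinearMap.ker ((dL A W (F.restrict P.ι) 0).rTensor B) := by
      intro k hk
      subst hk
      rw [dT, show C.d 0 1 = ModuleCat.ofHom (dL A W (F.restrict P.ι) 0) from CC_d A W _ 0]
      rfl
    exact key _ (CochainComplex.next ℕ 0)
  exact ⟨((η.app (ModuleCat.of A B)).toLinearEquiv.trans e₁.symm).trans ((LinearEquiv.ofEq _ _ hk).trans e.symm)⟩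

/-- A model has a finite corepresenting module. -/
theorem exists_corep {U : S.Opens} {hU : IsAffineOpen U} [IsNoetherianRing Γ(S, U)] (m : ModelNN f F hU) :
    ∃ Q : ModuleCat.{u} Γ(S, U), Module.Finite Γ(S, U) Q ∧
      Nonempty (CohIII.TFun m.L 0 ≅ (linearCoyoneda Γ(S, U) (ModuleCat.{u} Γ(S, U))).obj (op Q)) := by
  refine (preservesMono_iff_corep m.L (fun i => ⟨(m.hL i).1, flatX m.L m.hL i⟩) 0).1 ?_
  exact (T_epi_iff_mono_succ m.L (flatX m.L m.hL) (-1)).1
    ⟨fun {M N} g _ => (m.hneg (-1) (by omega) N).epi _⟩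

end Groth.Agent.W7See
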