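import Groth.Agent.W7See.SubPiece

/-!
Existence of the local pieces of the seesaw subscheme.
-/

set_option autoImplicit false
set_option backward.isDefEq.respectTransparency false
set_option backward.isDefEq.respectTransparency.types false
set_option linter.style.haveILetI false
set_option maxHeartbeats 2000000

universe u

open CategoryTheory CategoryTheory.Limits AlgebraicGeometry TopologicalSpace Opposite
open Groth.Agent.W7Cech Groth.Agent.FlatCx
open Groth.Agent.QC (res res_res res_self)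
open TMul (IsGen)

noncomputable section

namespace Groth.Agent.W7See

section Ring

variable {S : Scheme.{u}} {U D : S.Opens} (hD : IsAffineOpen D) (hDU : D ≤ U) (I : Ideal Γ(S, D))

/-- The closed piece cut out by an ideal on an affine open. -/
def piece : Spec (CommRingCat.of (Γ(S, D) ⧸ I)) ⟶ S :=
  Spec.map (CommRingCat.ofHom (Ideal.Quotient.mk I)) ≫ hD.fromSpec

lemma piece_range (t : Spec (CommRingCat.of (Γ(S, D) ⧸ I))) : piece hD I t ∈ D := by
  rw [piece, Scheme.Hom.comp_apply]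
  exact hD.range_fromSpec.subset ⟨_, rfl⟩

lemma piece_le {W : S.Opens} (h : D ≤ W) :
    (⊤ : (Spec (CommRingCat.of (Γ(S, D) ⧸ I))).Opens) ≤ piece hD I ⁻¹ᵁ W :=
  fun t _ => h (piece_range hD I t)

lemma piece_appLE (c : Γ(S, U)) :
    ((piece hD I).appLE U ⊤ (piece_le hD I hDU)).hom c =
      (Scheme.ΓSpecIso (CommRingCat.of (Γ(S, D) ⧸ I))).inv.hom
        (Ideal.Quotient.mk I (QC.resO S hDU c)) := by
  have h : (piece hD I).appLE U ⊤ (piece_le hD I hDU) =
      S.presheaf.map (homOfLE hDU).op ≫ CommRingCat.ofHom (Ideal.Quotient.mk I) ≫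
        (Scheme.ΓSpecIso (CommRingCat.of (Γ(S, D) ⧸ I))).inv := by
    have h1 : hD.fromSpec.appLE U ⊤ (fun x _ => hDU (hD.range_fromSpec.subset ⟨x, rfl⟩)) =
        S.presheaf.map (homOfLE hDU).op ≫ (Scheme.ΓSpecIso Γ(S, D)).inv := by
      rw [Scheme.Hom.appLE, hD.fromSpec_app_of_le U hDU, Category.assoc, Category.assoc]
      refine congrArg (S.presheaf.map (homOfLE hDU).op ≫ ·) ?_
      exact (congrArg ((Scheme.ΓSpecIso Γ(S, D)).inv ≫ ·) (((Spec Γ(S, D)).presheaf.map_comp _ _).symm.trans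
        ((congrArg _ (Subsingleton.elim _ (𝟙 _))).trans ((Spec Γ(S, D)).presheaf.map_id _)))).trans (Category.comp_id _)
    have h2 := Scheme.Hom.appLE_comp_appLE (Spec.map (CommRingCat.ofHom (Ideal.Quotient.mk I))) hD.fromSpec U ⊤ ⊤
      (fun x _ => hDU (hD.range_fromSpec.subset ⟨x, rfl⟩)) (fun _ _ => trivial)
    refine h2.symm.trans ?_
    rw [h1, Category.assoc]
    refine congrArg (S.presheaf.map (homOfLE hDU).op ≫ ·) ?_
    rw [Scheme.ΓSpecIso_inv_naturality]
    refine congrArg (_ ≫ ·) ?_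
    simp [Scheme.Hom.appTop, Scheme.Hom.app_eq_appLE]
  exact congr(($h).hom c)

lemma eq_piece_appLE (r : Γ(Spec (CommRingCat.of (Γ(S, D) ⧸ I)), ⊤)) :
    ∃ d : Γ(S, D), r = ((piece hD I).appLE D ⊤ (piece_le hD I le_rfl)).hom d := by
  obtain ⟨r', rfl⟩ := (ConcreteCategory.bijective_of_isIso (Scheme.ΓSpecIso (CommRingCat.of (Γ(S, D) ⧸ I))).inv).2 r
  obtain ⟨d, rfl⟩ := Ideal.Quotient.mk_surjective r'
  refine ⟨d, ?_⟩
  rw [piece_appLE hD le_rfl]
  exact congrArg (fun z => (Scheme.ΓSpecIso (CommRingCat.of (Γ(S, D) ⧸ I))).inv.hom (Ideal.Quotient.mk I z))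
    (QC.resO_self _ d).symm

end Ring

variable {X S : Scheme.{u}} {f : X ⟶ S} [IsProper f] [Flat f] [GeometricallyIntegral f] [IsLocallyNoetherian S]
  {L L' : X.Modules}

/-- Functions on the base inject into functions on the base change. -/
lemma app_injective {T P : Scheme.{u}} {g : T ⟶ S} {f' : P ⟶ T} {g' : P ⟶ X} (sq : IsPullback g' f' f g)
    (V : T.Opens) : Function.Injective (f'.app V).hom := by
  haveI : LocallyOfFinitePresentation f := InfLift.lfp_of_lft f
  haveI : IsProper f' := MorphismProperty.of_isPullback sq (inferInstance : IsProper f)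
  haveI : Flat f' := MorphismProperty.of_isPullback sq (inferInstance : Flat f)
  haveI : LocallyOfFinitePresentation f' := MorphismProperty.of_isPullback sq (inferInstance : LocallyOfFinitePresentation f)
  haveI : GeometricallyIntegral f' := MorphismProperty.of_isPullback sq (inferInstance : GeometricallyIntegral f)
  haveI := geometricallyConnected_of_geometricallyIntegral f'
  exact (app_bijective_of_local f' (fun t => W7Hull.exists_nhd_app_bijective_of_lfp f' t (bijective_fiber f' t)) V).1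

/-- Killing elements vanish on a base where the bundle is locally trivial. -/
theorem appLE_eq_zero_of_LT (hL : PicF.IsInvertible L) {U : S.Opens} {hU : IsAffineOpen U} (m : ModelNN f L hU)
    (Q : ModuleCat.{u} Γ(S, U))
    (η : CohIII.TFun m.L 0 ≅ (linearCoyoneda Γ(S, U) (ModuleCat.{u} Γ(S, U))).obj (op Q)) {a j : Γ(S, U)}
    (hj : ∀ v : Q, ∃ n : ℕ, a ^ n • j • v = 0) {T : Scheme.{u}} {u : T ⟶ S} (h : LT f L u)
    {V : T.Opens} (hVU : V ≤ u ⁻¹ᵁ U) (hVa : ∀ t ∈ V, u t ∈ S.basicOpen a) :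
    (u.appLE U V hVU).hom j = 0 := by
  haveI : LocallyOfFinitePresentation f := InfLift.lfp_of_lft f
  have hq := TMul.isQCoh_of_isInvertible hL
  have hloc : ∀ t : V, ∃ W : T.Opens, IsAffineOpen W ∧ (t : T) ∈ W ∧ W ≤ V ∧
      ∃ g : Γ((Scheme.Modules.pullback (pullback.fst f u)).obj L, pullback.snd f u ⁻¹ᵁ W), IsGen g := fun t => by
    obtain ⟨V₀, ht, g, hg⟩ := h t.1
    obtain ⟨W, hW, htW, hWV⟩ := exists_isAffineOpen_mem_and_subset (x := t.1) (U := V ⊓ V₀) ⟨t.2, ht⟩
    exact ⟨W, hW, htW, hWV.trans inf_le_left, _, hg.res ((pullback.snd f u).preimage_mono (hWV.trans inf_le_right))⟩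
  choose W hW htW hWV g hg using hloc
  refine TopCat.Sheaf.eq_of_locally_eq' T.sheaf W V (fun t => homOfLE (hWV t))
    (fun t ht => Opens.mem_iSup.2 ⟨⟨t, ht⟩, htW ⟨t, ht⟩⟩) _ _ fun t => ?_
  replace hW := hW t
  replace hWV := hWV t
  replace hg := hg t
  have ha : IsUnit ((u.appLE U _ (hWV.trans hVU)).hom a) := by
    refine (T.toLocallyRingedSpace.toRingedSpace.isUnit_of_isUnit_germ _ _ fun x hx => ?_)
    have hxa : x ∈ T.basicOpen ((u.appLE U _ (hWV.trans hVU)).hom a) := by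
      rw [Scheme.basicOpen_appLE]
      exact ⟨hx, hVa x (hWV hx)⟩
    exact (T.mem_basicOpen _ x hx).1 hxa
  have h0 := appLE_eq_zero_of_gen hq m Q η hj (IsPullback.of_hasPullback f u) hW (hWV.trans hVU) ha
    (app_injective (IsPullback.of_hasPullback f u) _) hg
  rw [map_zero, ← h0]
  exact congr(($(Scheme.Hom.appLE_map u hVU (homOfLE hWV).op)).hom j)

/-- One piece of data for one bundle: a cyclic presentation near a point. -/
structure Cyc (L : X.Modules) (U : S.Opens) (hU : IsAffineOpen U) where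
  m : ModelNN f L hU
  Q : ModuleCat.{u} Γ(S, U)
  η : CohIII.TFun m.L 0 ≅ (linearCoyoneda Γ(S, U) (ModuleCat.{u} Γ(S, U))).obj (op Q)
  a : Γ(S, U)
  q : Q
  hq : ∀ v : Q, ∃ c : Γ(S, U), a • v = c • q

/-- The annihilator of the generator. -/
def Cyc.J {U : S.Opens} {hU : IsAffineOpen U} (C : Cyc (f := f) L U hU) : Ideal Γ(S, U) :=
  LinearMap.ker (LinearMap.toSpanSingleton Γ(S, U) C.Q C.q)

lemma Cyc.kills {U : S.Opens} {hU : IsAffineOpen U} (C : Cyc (f := f) L U hU) {j : Γ(S, U)} (hj : j ∈ C.J)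
    {b : Γ(S, U)} (v : C.Q) : ∃ n : ℕ, (C.a * b) ^ n • j • v = 0 := by
  obtain ⟨c, hc⟩ := C.hq v
  refine ⟨1, ?_⟩
  have hj' : j • C.q = 0 := hj
  rw [pow_one, mul_comm, mul_smul, smul_comm C.a, hc, smul_comm j, hj', smul_zero, smul_zero]

set_option maxHeartbeats 4000000 in
/-- Triviality of the fibres on a piece. -/
theorem exists_section_ne_zero (hL : PicF.IsInvertible L) {U : S.Opens} {hU : IsAffineOpen U}
    (C : Cyc (f := f) L U hU) {T : Scheme.{u}} (u : T ⟶ S) (hTU : (⊤ : T.Opens) ≤ u ⁻¹ᵁ U)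
    (ha : IsUnit ((u.appLE U ⊤ hTU).hom C.a)) (hJ : ∀ j ∈ C.J, (u.appLE U ⊤ hTU).hom j = 0) (z : T) :
    ∃ s : Γ(CohIII.fiberMod (pullback.snd f u) ((Scheme.Modules.pullback (pullback.fst f u)).obj L) z, ⊤), s ≠ 0 := by
  haveI : LocallyOfFinitePresentation f := InfLift.lfp_of_lft f
  let fT := pullback.snd f u
  let k := T.fromSpecResidueField z
  have sq : IsPullback (fT.fiberι z ≫ pullback.fst f u) (fT.fiberToSpecResidueField z) f (k ≫ u) :=
    (IsPullback.of_hasPullback fT k).paste_horiz (IsPullback.of_hasPullback f u)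
  have hle : (⊤ : (Spec (T.residueField z)).Opens) ≤ (k ≫ u) ⁻¹ᵁ U := fun x _ => hTU (show k x ∈ (⊤ : T.Opens) from trivial)
  have hcomp : ∀ c, ((k ≫ u).appLE U ⊤ hle).hom c = (k.appLE ⊤ ⊤ (fun _ _ => trivial)).hom ((u.appLE U ⊤ hTU).hom c) :=
    fun c => congr(($(Scheme.Hom.appLE_comp_appLE k u U ⊤ ⊤ hTU (fun _ _ => trivial))).hom c).symm
  obtain ⟨e, -⟩ := exists_sections_equiv (TMul.isQCoh_of_isInvertible hL) C.m C.Q C.η C.q C.hq sq
    (isAffineOpen_top _) hle (by rw [hcomp]; exact ha.map _)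
    (fun j hj => by rw [hcomp, hJ j hj, map_zero])
  let φ := ((Scheme.Modules.pullbackComp (fT.fiberι z) (pullback.fst f u)).app L).inv
  haveI : Nontrivial Γ(Spec (T.residueField z), ⊤) :=
    (Scheme.ΓSpecIso (T.residueField z)).commRingCatIsoToRingEquiv.toEquiv.nontrivial
  refine ⟨φ.app _ (e.symm 1), fun h => one_ne_zero (α := Γ(Spec (T.residueField z), ⊤)) ?_⟩
  have h1 : e.symm 1 = 0 := (ConcreteCategory.bijective_of_isIso (φ.app _)).1 (h.trans (map_zero _).symm)
  rw [← e.apply_symm_apply 1, h1, map_zero]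

set_option maxHeartbeats 4000000 in
/-- The piece trivialises the bundle. -/
theorem lt_piece (hL : PicF.IsInvertible L) (hL' : PicF.IsInvertible L')
    (ε : CohB1.tensorMod L L' ≅ Coh.structureModule X) {U : S.Opens} {hU : IsAffineOpen U}
    (C : Cyc (f := f) L U hU) (C' : Cyc (f := f) L' U hU) :
    LT f L (piece (hU.basicOpen (C.a * C'.a))
      ((C.J ⊔ C'.J).map (QC.resO S (S.basicOpen_le (C.a * C'.a))))) := by
  haveI : LocallyOfFinitePresentation f := InfLift.lfp_of_lft f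
  let a := C.a * C'.a
  let D := S.basicOpen a
  have hD : IsAffineOpen D := hU.basicOpen a
  let I : Ideal Γ(S, D) := (C.J ⊔ C'.J).map (QC.resO S (S.basicOpen_le a))
  haveI : IsNoetherianRing Γ(S, D) := IsLocallyNoetherian.component_noetherian ⟨D, hD⟩
  let T := Spec (CommRingCat.of (Γ(S, D) ⧸ I))
  let u : T ⟶ S := piece hD I
  change LT f L u
  have hTU : (⊤ : T.Opens) ≤ u ⁻¹ᵁ U := piece_le hD I (S.basicOpen_le a)
  have hua : IsUnit ((u.appLE U ⊤ hTU).hom a) := by
    rw [piece_appLE hD (S.basicOpen_le a)]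
    exact ((RingedSpace.isUnit_res_basicOpen _ a).map (Ideal.Quotient.mk I)).map _
  have huI : ∀ j ∈ C.J ⊔ C'.J, (u.appLE U ⊤ hTU).hom j = 0 := fun j hj => by
    rw [piece_appLE hD (S.basicOpen_le a), Ideal.Quotient.eq_zero_iff_mem.2 (Ideal.mem_map_of_mem _ hj)]
    exact map_zero _
  rw [map_mul, IsUnit.mul_iff] at hua
  let fT := pullback.snd f u
  haveI := geometricallyConnected_of_geometricallyIntegral fT
  haveI : IsAffine T := inferInstance
  haveI : IsNoetherianRing Γ(T, ⊤) :=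
    isNoetherianRing_of_ringEquiv _ (Scheme.ΓSpecIso (CommRingCat.of (Γ(S, D) ⧸ I))).symm.commRingCatIsoToRingEquiv
  let G := (Scheme.Modules.pullback (pullback.fst f u)).obj L
  let G' := (Scheme.Modules.pullback (pullback.fst f u)).obj L'
  have hG : PicF.IsInvertible G := PicLoc.isInvertible_pullback _ hL
  have hG' : PicF.IsInvertible G' := PicLoc.isInvertible_pullback _ hL'
  obtain ⟨εT⟩ := TMul.nonempty_pullTensorIso (pullback.fst f u) L L'
  let ε' : CohB1.tensorMod G G' ≅ Coh.structureModule (pullback f u) :=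
    εT ≪≫ (Scheme.Modules.pullback _).mapIso ε ≪≫ PicLoc.pullbackStructureIso _
  have htriv : ∀ z : T, Nonempty (CohIII.fiberMod fT G z ≅ Coh.structureModule (fT.fiber z)) := by
    intro z
    obtain ⟨s, hs⟩ := exists_section_ne_zero hL C u hTU hua.1 (fun j hj => huI j (le_sup_left (a := C.J) hj)) z
    obtain ⟨t, ht⟩ := exists_section_ne_zero hL' C' u hTU hua.2 (fun j hj => huI j (le_sup_right (b := C'.J) hj)) z
    obtain ⟨b⟩ := TMul.nonempty_pullTensorIso (fT.fiberι z) G G'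
    exact nonempty_iso_unit_of_sections (isUnit_of_bijective (bijective_fiber fT z))
      (PicLoc.isInvertible_pullback _ hG) (PicLoc.isInvertible_pullback _ hG')
      (b ≪≫ (Scheme.Modules.pullback (fT.fiberι z)).mapIso ε' ≪≫ PicLoc.pullbackStructureIso _) hs ht
  intro z
  have hF := W7Hull.isFP_of_isInvertible hG
  have hq := FibDepth.isQCoh_of_isFP hF
  have hfl := W7Hull.isFlatOver_of_isInvertible fT hG
  let hT := isAffineOpen_top T
  obtain ⟨m⟩ := nonempty_ModelNN fT hq hF hfl hT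
  obtain ⟨Q, hQ, ⟨η⟩⟩ := exists_corep fT m
  haveI := hQ
  let x := hT.primeIdealOf ⟨z, trivial⟩
  have hrk : Module.finrank x.asIdeal.ResidueField (TensorProduct Γ(T, ⊤) x.asIdeal.ResidueField Q) ≤ 1 := by
    have hx : CohIII.dRank m.L ((0 : ℕ) : ℤ) x = 1 := by
      rw [← m.hrk 0 x, show hT.fromSpec x = z from hT.fromSpec_primeIdealOf ⟨z, trivial⟩]
      exact fiberRank_eq_one fT G z (bijective_fiber fT z) (htriv z).some
    exact ((finrank_tensor_eq_dRank m.L m.hL Q 0 η x).trans hx).le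
  obtain ⟨b, hb, q, hcyc⟩ := exists_cyclic Q x hrk
  have hJ : ∀ j : Γ(T, ⊤), j • q = 0 → ∃ n, b ^ n * j = 0 := by
    intro j hj
    let V := T.basicOpen b
    have hV : IsAffineOpen V := hT.basicOpen b
    have hVT : V ≤ 𝟙 T ⁻¹ᵁ ⊤ := fun _ _ => trivial
    have hVU : V ≤ u ⁻¹ᵁ U := fun t _ => hTU (show t ∈ (⊤ : T.Opens) from trivial)
    have hr : ∀ c, ((𝟙 T : T ⟶ T).appLE ⊤ V hVT).hom c = QC.resO T le_top c := fun c => by
      simp [Scheme.Hom.appLE, QC.resO]
    have hb' : IsUnit (((𝟙 T : T ⟶ T).appLE ⊤ V hVT).hom b) := by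
      rw [hr]; exact RingedSpace.isUnit_res_basicOpen _ b
    have hsm : ∀ s : Γ((Scheme.Modules.pullback (𝟙 _)).obj G, fT ⁻¹ᵁ V),
        (fT.app V).hom (QC.resO T le_top j) • s = 0 := fun s => by
      rw [← hr j]
      refine smul_sections_eq_zero hq m Q η (a := b) (fun v => ⟨1, ?_⟩) (IsPullback.of_id_fst : IsPullback (𝟙 _) fT fT (𝟙 T)) hV hVT hb' s
      obtain ⟨c, hc⟩ := hcyc v
      rw [pow_one, smul_comm, hc, smul_comm, hj, smul_zero]
    have hres : ∀ c, (u.appLE U V hVU).hom c = QC.resO T le_top ((u.appLE U ⊤ hTU).hom c) := fun c =>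
      (congr(($(Scheme.Hom.appLE_map u hTU (homOfLE (le_top : V ≤ ⊤)).op)).hom c)).symm
    obtain ⟨e, he⟩ := exists_sections_equiv (TMul.isQCoh_of_isInvertible hL) C.m C.Q C.η C.q C.hq
      (IsPullback.of_hasPullback f u) hV hVU (by rw [hres]; exact hua.1.map _)
      (fun i hi => by rw [hres, huI i (le_sup_left (a := C.J) hi), map_zero])
    let s₀ : Γ(G, fT ⁻¹ᵁ V) := e.symm 1
    have hs₀ : (fT.app V).hom (QC.resO T le_top j) • s₀ = 0 := by
      let φ := (Scheme.Modules.pullbackId (pullback f u)).app G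
      have h := congrArg (φ.hom.app (fT ⁻¹ᵁ V)) (hsm (φ.inv.app _ s₀))
      rwa [Scheme.Modules.Hom.app_smul, map_zero,
        show φ.hom.app (fT ⁻¹ᵁ V) (φ.inv.app _ s₀) = s₀ from congr(($(φ.inv_hom_id)).app (fT ⁻¹ᵁ V) s₀)] at h
    obtain ⟨d, hd⟩ := eq_piece_appLE hD I j
    letI : Algebra Γ(S, U) Γ(S, D) := (QC.resO S (S.basicOpen_le a)).toAlgebra
    haveI : IsLocalization.Away a Γ(S, D) := hU.isLocalization_basicOpen a
    obtain ⟨⟨c, ⟨_, k, rfl⟩⟩, hk⟩ := IsLocalization.surj (Submonoid.powers a) d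
    have hk' : (u.appLE U ⊤ hTU).hom c = j * (u.appLE U ⊤ hTU).hom a ^ k := by
      have hcomm : ∀ c, ((piece hD I).appLE D ⊤ (piece_le hD I le_rfl)).hom (algebraMap Γ(S, U) Γ(S, D) c) =
          (u.appLE U ⊤ hTU).hom c := fun c =>
        congr(($(Scheme.Hom.map_appLE (piece hD I) (piece_le hD I le_rfl) (homOfLE (S.basicOpen_le a)).op)).hom c)
      rw [← hcomm c, ← hk, map_mul, hd, hcomm, map_pow]
    have hcV : (u.appLE U V hVU).hom c = 0 := by
      have h := he c s₀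
      rw [e.apply_symm_apply, mul_one, hres c, hk', map_mul, map_pow, map_mul, map_pow, mul_comm, mul_smul, hs₀,
        smul_zero, map_zero, mul_comm] at h
      rw [hres, hk', map_mul, map_pow]
      exact (mul_comm _ _).trans h.symm
    have hjV : QC.resO T (le_top : V ≤ ⊤) j = 0 := by
      rw [hres, hk', map_mul, map_pow] at hcV
      refine (IsUnit.mul_left_eq_zero (IsUnit.pow k ?_)).1 hcV
      rw [map_mul]
      exact (hua.1.mul hua.2).map _
    letI : Algebra Γ(T, ⊤) Γ(T, V) := (QC.resO T (le_top : V ≤ ⊤)).toAlgebra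
    haveI : IsLocalization.Away b Γ(T, V) := hT.isLocalization_basicOpen b
    obtain ⟨⟨_, n, rfl⟩, hn⟩ := (IsLocalization.map_eq_zero_iff (Submonoid.powers b) Γ(T, V) j).1 hjV
    exact ⟨n, hn⟩
  obtain ⟨n, φ, hφ⟩ := exists_functional Q b q hcyc hJ
  have hmem := mem_freeLocus_of_functional m.L m.hL Q 0 η b q hcyc φ hφ x hb
  have hle : fT.fiberToSpecResidueField z ⁻¹ᵁ ⊤ ≤ fT.fiberι z ⁻¹ᵁ (fT ⁻¹ᵁ ⊤) := fun _ _ => trivial
  have hspan := (spanAt_iff fT G hq hfl hT m z trivial hle).2 hmem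
  obtain ⟨W, hzW, -, hW⟩ := exists_nhd_epi_of_spanAt fT G hq hF hfl z hT trivial hle hspan
  obtain ⟨V, g, hzV, hg⟩ := W7Hull.exists_gen_near_of_epi_lfp fT G hG z ⟨W, hzW, hW⟩ (htriv z).some
  exact ⟨V, hzV, g, hg⟩

/-- A point with a bundle of fibre rank at most one has a cyclic presentation. -/
theorem exists_cyc (hL : PicF.IsInvertible L) {U : S.Opens} (hU : IsAffineOpen U) (y : S) (hy : y ∈ U)
    (h : CohIII.fiberRank f L 0 y ≤ 1) :
    ∃ C : Cyc (f := f) L U hU, y ∈ S.basicOpen C.a := by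
  haveI : LocallyOfFinitePresentation f := InfLift.lfp_of_lft f
  haveI : IsNoetherianRing Γ(S, U) := IsLocallyNoetherian.component_noetherian ⟨U, hU⟩
  obtain ⟨m⟩ := nonempty_ModelNN f (TMul.isQCoh_of_isInvertible hL) (W7Hull.isFP_of_isInvertible hL)
    (W7Hull.isFlatOver_of_isInvertible f hL) hU
  obtain ⟨Q, hQ, ⟨η⟩⟩ := exists_corep f m
  haveI := hQ
  let x := hU.primeIdealOf ⟨y, hy⟩
  have hx : CohIII.dRank m.L ((0 : ℕ) : ℤ) x ≤ 1 := by
    rw [← m.hrk 0 x, show hU.fromSpec x = y from hU.fromSpec_primeIdealOf ⟨y, hy⟩]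
    exact h
  obtain ⟨a, ha, q, hq⟩ := exists_cyclic Q x ((finrank_tensor_eq_dRank m.L m.hL Q 0 η x).trans_le hx)
  exact ⟨⟨m, Q, η, a, q, hq⟩, (WeakAssLib.mem_primeIdealOf hU hy a).2 ha⟩

end Groth.Agent.W7See
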